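import Cfsg.Agent.Omega.KL.StarQ.CoreN
import Cfsg.Agent.Omega.KL.Star.Mix
import Cfsg.Agent.Omega.NOThreeL.RZ.TwoC.LemT

/-!
# The nonsplit case of [R-z], side 1, `H = C_H(X) T` (helper878, bb #24731 (N2), helper162 LEMMA T1, #25374 [N])

`h : LB H M T A`; `X ≤ M` is `T`-invariant with `H = C_H(X) T`, `A` centralises `X`, `C_T(X)` centralises `Rm ≤ Y`,
some `T`-fixed vector of `Rm` is moved by `H`.  Every `T`-minimal `P` centralises `C_M(T)`, or `C_{Rm}(T)`, or lies in `Q`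
(and `A ≤ O₂(P)`), `Q` normalises `Rm`, `J`, and `Bad`: an element `d` of odd order of `Q` with `[[Y, d], [J, d]] = 1`
centralises `Y`.

* `odd_of` : `O(H') = 1` for the irreducible section;
* **`AltIn.false_of`** : this is impossible (`MLK`, `Ext`).
-/

set_option autoImplicit false

namespace Cfsg.Agent.Omega.KL.StarR.Alt

open Subgroup Cfsg Cfsg.Agent.ZN Cfsg.Agent.ClassTwoFusion.Quad
open Cfsg.Agent.Omega.ML.MinFrame hiding comm_of_sq
open Cfsg.Agent.Omega.ML.Final Cfsg.Agent.Omega.NO3S.EMany.Low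
open Cfsg.Agent.Omega.KL.Star.Core Cfsg.Agent.Omega.KL.Star.Mix Cfsg.Agent.Omega.KL.StarQ
open Cfsg.Agent.MinSimple.VModule (o2_isPGroup o2_le le_o2 le_normalizer_o2 o2_le_of_sylow oddGen oddGen_le oddGen_def
  mem_oddGen)
open Cfsg.Agent.MinSimple.MinParabolic (IsMinPar le_of_forall)

universe u v

/-- **The input** (over `LB H M T A`). -/
structure AltIn (H : Type u) [Group H] (M : Type v) [Group M] [MulDistribMulAction H M] (T A J Q : Subgroup H)
    (X Rm Y : Subgroup M) : Prop where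
  TX : ∀ t ∈ T, ∀ w ∈ X, t • w ∈ X
  sup : fxr H X ⊔ T = ⊤
  alt : ∀ t ∈ T, (∀ w ∈ X, t • w = w) → ∀ w ∈ Rm, t • w = w
  AX : ∀ a ∈ A, ∀ w ∈ X, a • w = w
  RY : Rm ≤ Y
  NQ : normalizer (T : Set H) ≤ Q
  QR : ∀ q ∈ Q, ∀ w ∈ Rm, q • w ∈ Rm
  QJ : Q ≤ normalizer (J : Set H)
  JT : J ≤ T
  /-- a `T`-minimal `P` centralises `C_M(T)`, or `C_{Rm}(T)`, or is in `Q` -/
  par : ∀ P : Subgroup H, IsMinPar T P → (∀ m : M, (∀ t ∈ T, t • m = m) → ∀ p ∈ P, p • m = m) ∨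
    (∀ m ∈ Rm, (∀ t ∈ T, t • m = m) → ∀ p ∈ P, p • m = m) ∨ (A ≤ o2 P ∧ P ≤ Q)
  bad : ∀ d ∈ Q, Odd (orderOf d) → (∀ j ∈ J, ∀ w ∈ Y, (j * d * j⁻¹ * d⁻¹) • ((d • w) * w⁻¹) = (d • w) * w⁻¹) →
    ∀ w ∈ Y, d • w = w
  mv : ∃ z ∈ Rm, (∀ t ∈ T, t • z = z) ∧ ¬ ∀ g : H, g • z = z

section

variable {H : Type u} [Group H] [Finite H] {M : Type v} [Group M] [Finite M] [MulDistribMulAction H M]
  {T A J Q : Subgroup H} {X Rm Y : Subgroup M}

/-- **`O(H') = 1`** -/
theorem odd_of (h : LB H M T A) (hM : MLK.{u, v}) (i : AltIn H M T A J Q X Rm Y)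
    {H' : Type u} [Group H'] [Finite H'] {N : Type v} [Group N] [Finite N] [MulDistribMulAction H' N]
    {π : H →* H'} {f : ↥(cmm M A) →* N} {B : Subgroup H'} (o : Out H M T A H' N π f B)
    (nmax : ¬ ∃ L : Subgroup H', L ≠ ⊤ ∧ ∀ R : Subgroup H', T.map π ≤ R → R ≠ ⊤ → R ≤ L) :
    ∀ K : Subgroup H', K.Normal → Odd (Nat.card K) → K = ⊥ := by
  intro K hK hKo
  obtain ⟨z, hzR, tz, mz⟩ := i.mv
  obtain ⟨z1, hz1, hzs⟩ := h.shift tz
  have tz1 : ∀ t ∈ T, t • z1 = z1 := fun t ht => (hzs t).2 (tz t ht)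
  have mz1 : ¬ ∀ g : H, g • z1 = z1 := fun hc => mz fun g => (hzs g).1 (hc g)
  have him : ∀ {m : M} (hm : m ∈ cmm M A) {g : H}, g • m = m → π g • f ⟨m, hm⟩ = f ⟨m, hm⟩ := by
    intro m hm g hg
    rw [← o.eqv g ⟨m, hm⟩]
    exact congrArg f (Subtype.ext hg)
  have nz1 : f ⟨z1, hz1⟩ ≠ 1 := fun h1 => mz1 fun g => h.fix_of_cvKm tz1 ((o.ker _).1 h1) g
  -- the kernel of `π` centralises `U¹`
  have hkz' : ∀ k ∈ π.ker ⊔ T, k • z1 = z1 := by
    refine h.fix_of_mod tz1 le_sup_right (I := cv M (Km A : Set H))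
      (fun w hw tw g _ => h.fix_of_cvKm tw hw g) fun k hk => ?_
    have h1 : π k • f ⟨z1, hz1⟩ = f ⟨z1, hz1⟩ := by
      obtain ⟨k1, hk1, s, hs', rfl⟩ := mem_sup_of_normal_left.1 hk
      rw [map_mul, (MonoidHom.mem_ker).1 hk1, one_mul]
      exact him hz1 (tz1 s hs')
    rw [← o.eqv k ⟨z1, hz1⟩, ← mul_inv_eq_one, ← map_inv, ← map_mul, o.ker] at h1
    exact h1
  have hkU : ∀ k ∈ π.ker, ∀ w ∈ cmm M A, k • w = w := by
    intro k hk w hw
    have h1 : k ∈ fxr H (orb (⊤ : Subgroup H) z1) := by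
      rw [mem_fxr_orb]
      intro s _
      have h2 := hkz' (s⁻¹ * k * s) (mem_sup_left (by
        have := (inferInstance : (π.ker).Normal).conj_mem k hk s⁻¹
        rwa [inv_inv] at this))
      rwa [mul_smul, mul_smul, inv_smul_eq_iff] at h2
    exact h1 w (h.cmm_le hM tz1 mz1 hw)
  -- `K ≤ π(Q)`
  have hKX : K ≤ Q.map π := by
    have hle : K ⊔ T.map π ≤ Q.map π := by
      refine le_of_forall le_sup_right ?_ ?_
      · rintro ν ⟨-, hν⟩
        obtain ⟨_, ⟨t, ht, rfl⟩, n, hn, rfl⟩ := KL.GenTool.exists_normalizer_map π o.πs h.two h.syl hν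
        exact mul_mem ⟨t, i.NQ (le_normalizer ht), rfl⟩ ⟨n, i.NQ hn, rfl⟩
      · intro P' hP' hPK
        obtain ⟨P, hP, rfl⟩ := KL.GenTool.exists_minPar_map π o.πs hP'
        obtain ⟨hn1, hn2⟩ := inf_normal o.lb nmax hK hKo hP'.le hPK
        have hno : (∀ p ∈ P, p • z = z) → False := by
          intro hPz
          have h6 := bot_of_fix o.faith o.irr hn1 nz1 fun n hn => by
            obtain ⟨q, hq, rfl⟩ := hn.1
            exact him hz1 ((hzs q).2 (hPz q hq))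
          rw [h6, bot_sup_eq] at hn2
          exact hP'.ne hn2
        rcases i.par P hP with h1 | h1 | h1
        · exact (hno (h1 z tz)).elim
        · exact (hno (h1 z hzR tz)).elim
        · exact map_mono h1.2
    exact le_sup_left.trans hle
  refine bot_of_fix o.faith o.irr hK nz1 fun κ hκ => ?_
  obtain ⟨g, hg, rfl⟩ := hKX hκ
  -- the odd part of `g`
  obtain ⟨a, m, hm, ha⟩ := Nat.exists_eq_pow_mul_and_not_dvd (orderOf_pos g).ne' 2 (by norm_num)
  have hm' : Odd m := Nat.not_even_iff_odd.1 fun h => hm h.two_dvd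
  have hgo : orderOf (g ^ 2 ^ a) = m := by
    rw [orderOf_pow_of_dvd (by positivity) (ha ▸ Dvd.intro _ rfl), ha, Nat.mul_div_cancel_left _ (by positivity)]
  have hgo' : Odd (orderOf (g ^ 2 ^ a)) := hgo ▸ hm'
  have hgK : π (g ^ 2 ^ a) ∈ K := by
    rw [map_pow]
    exact K.pow_mem hκ _
  have hgQ : g ^ 2 ^ a ∈ Q := Q.pow_mem hg _
  have hgA : g ^ 2 ^ a ∈ Km A := mem_of_odd h.two h.gen hgo'
  have hfix : ∀ w ∈ Y, g ^ 2 ^ a • w = w := by
    refine i.bad _ hgQ hgo' fun j hj w hw => ?_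
    refine hkU _ ?_ _ (mem_cmm hgA w)
    rw [MonoidHom.mem_ker]
    refine eq_one_of_odd hKo (Q := J.map π) ((h.two.to_le i.JT).map π) ?_ ?_
    · rw [map_mul, map_mul, map_mul, map_inv, map_inv]
      exact K.mul_mem (hK.conj_mem _ hgK _) (K.inv_mem hgK)
    · refine ⟨j * (g ^ 2 ^ a) * j⁻¹ * (g ^ 2 ^ a)⁻¹, ?_, rfl⟩
      have h1 := (mem_normalizer_iff.1 (i.QJ hgQ) j⁻¹).1 (J.inv_mem hj)
      have e : j * (g ^ 2 ^ a) * j⁻¹ * (g ^ 2 ^ a)⁻¹ = j * ((g ^ 2 ^ a) * j⁻¹ * (g ^ 2 ^ a)⁻¹) := by group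
      rw [SetLike.mem_coe, e]
      exact J.mul_mem hj h1
  have h1 : π g ^ 2 ^ a • f ⟨z1, hz1⟩ = f ⟨z1, hz1⟩ := by
    rw [← map_pow]
    exact him hz1 ((hzs _).2 (hfix z (i.RY hzR)))
  have h2 : (2 ^ a).Coprime (orderOf (π g)) := by
    have h3 : orderOf (π g) ∣ Nat.card K := by
      have := orderOf_dvd_natCard (⟨π g, hκ⟩ : K)
      rwa [orderOf_mk] at this
    exact Nat.Coprime.pow_left a (Nat.coprime_two_left.mpr (hKo.of_dvd_nat h3))
  obtain ⟨j, hj⟩ := exists_pow_eq_self_of_coprime h2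
  have h3 : (π g ^ 2 ^ a) ^ j ∈ MulAction.stabilizer H' (f ⟨z1, hz1⟩) := pow_mem h1 j
  rw [hj] at h3
  exact h3

/-- **The case `H = C_H(X) T` is impossible.** -/
theorem AltIn.false_of (h : LB H M T A) (hM : MLK.{u, v}) (hE : ML.Ex.Two.Ext.{u, v})
    (i : AltIn H M T A J Q X Rm Y) : False := by
  obtain ⟨z, hzR, tz, mz⟩ := i.mv
  -- `H` is not `T`-minimal
  have nm : ¬ IsMinPar T (⊤ : Subgroup H) := by
    intro hP
    rcases i.par ⊤ hP with h1 | h1 | h1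
    · exact mz fun g => h1 z tz g (mem_top g)
    · exact mz fun g => h1 z hzR tz g (mem_top g)
    · exact h.nb h1.1
  -- no `P` moves one and fixes `z`
  have hex : ∀ P : Subgroup H, T ≤ P → ∀ m : M, (∀ t ∈ T, t • m = m) → (∃ p ∈ P, p • m ≠ m) →
      (∀ p ∈ P, p • z = z) → False := by
    intro P hTP m tm hmv hPz
    obtain ⟨H', i1, i2, N, i3, i4, i5, π, f, A', x', y', o, s⟩ := exists_sysV h hM tm tz mz ⟨P, hTP, hmv, hPz⟩ nm
    exact hE H' N (T.map π) A' x' y' (s.sysT (odd_of h hM i o s.nmax))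
  -- `X` is `H`-invariant
  have hXi : ∀ g : H, ∀ w ∈ X, g • w ∈ X := by
    have h1 : (⊤ : Subgroup H) ≤ { carrier := {g : H | ∀ w : M, g • w ∈ X ↔ w ∈ X}
                                   one_mem' := fun w => by rw [one_smul]
                                   mul_mem' := fun {a b} ha hb w => by rw [mul_smul, ha, hb]
                                   inv_mem' := fun {a} ha w => by rw [← ha, smul_inv_smul] } := by
      rw [← i.sup]
      refine sup_le (fun g hg w => ?_) (fun t ht w => ?_)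
      · refine ⟨fun h2 => ?_, fun h2 => by rw [hg w h2]; exact h2⟩
        have h3 := (fxr H X).inv_mem hg _ h2
        rw [inv_smul_smul] at h3
        rw [h3]
        exact h2
      · refine ⟨fun h2 => ?_, i.TX t ht w⟩
        have h3 := i.TX t⁻¹ (T.inv_mem ht) _ h2
        rwa [inv_smul_smul] at h3
    exact fun g w hw => (h1 (mem_top g) w).2 hw
  have hn : (fxr H X).Normal := fxr_normal hXi
  -- the hypothesis of LEMMA T1
  have hpar : ∀ P : Subgroup H, IsMinPar T P → (∃ z : M, (∀ t ∈ T, t • z = z) ∧ ∃ p ∈ P, p • z ≠ z) →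
      P ≤ normalizer ((T ⊓ fxr H X : Subgroup H) : Set H) := by
    rintro P hP ⟨m, tm, hmv⟩
    have hPz : ¬ ∀ p ∈ P, p • z = z := fun h1 => hex P hP.le m tm hmv h1
    have hPQ : A ≤ o2 P ∧ P ≤ Q := by
      rcases i.par P hP with h1 | h1 | h1
      · exact (hPz (h1 z tz)).elim
      · exact (hPz (h1 z hzR tz)).elim
      · exact h1
    have hsylP : ¬ 2 ∣ T.relIndex P := fun h1 => h.syl (h1.trans (relIndex_dvd_index_of_le hP.le))
    -- `C_P(Rm)`
    have hcn : P ≤ normalizer ((P ⊓ fxr H Rm : Subgroup H) : Set H) := by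
      have key : ∀ p ∈ P, ∀ g ∈ P ⊓ fxr H Rm, p * g * p⁻¹ ∈ P ⊓ fxr H Rm := fun p hp g hg =>
        ⟨P.mul_mem (P.mul_mem hp hg.1) (P.inv_mem hp),
          conj_mem_fxr (R := P) (fun g hg m hm => i.QR g (hPQ.2 hg) m hm) hp hg.2⟩
      intro p hp
      rw [mem_normalizer_iff]
      intro g
      refine ⟨fun hg => key p hp g hg, fun hg => ?_⟩
      have h5 := key p⁻¹ (P.inv_mem hp) _ hg
      have e : p⁻¹ * (p * g * p⁻¹) * p⁻¹⁻¹ = g := by group
      rwa [e] at h5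
    rcases hP.sup_eq_or_inf_le h.two hsylP (N := P ⊓ fxr H Rm) inf_le_left hcn with h1 | h1
    · refine (hPz fun p hp => ?_).elim
      rw [← h1] at hp
      have h2 : (P ⊓ fxr H Rm) ⊔ T ≤ MulAction.stabilizer H z :=
        sup_le (fun g hg => hg.2 z hzR) fun t ht => tz t ht
      exact h2 hp
    · have h2 : T ⊓ fxr H X ≤ o2 P := by
        refine le_trans (le_inf inf_le_left (le_inf (inf_le_left.trans hP.le) ?_)) h1
        exact fun t ht => i.alt t ht.1 ht.2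
      have h3 : o2 P ≤ T := o2_le_of_sylow h.two hsylP
      have h4 : T ⊓ fxr H X = o2 P ⊓ fxr H X :=
        le_antisymm (le_inf h2 inf_le_right) (inf_le_inf_right _ h3)
      rw [h4]
      intro p hp
      have h5 := mem_normalizer_iff.1 (le_normalizer_o2 P hp)
      rw [mem_normalizer_iff]
      intro g
      constructor
      · rintro ⟨h6, h7⟩
        exact ⟨(h5 g).1 h6, hn.conj_mem g h7 p⟩
      · rintro ⟨h6, h7⟩
        refine ⟨(h5 g).2 h6, ?_⟩
        have h8 := hn.conj_mem _ h7 p⁻¹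
        have e : p⁻¹ * (p * g * p⁻¹) * p⁻¹⁻¹ = g := by group
        rwa [e] at h8
  have hT := NOThreeL.RZ.TwoC.LemT.lemT (M := M) h.sq hn h.two h.syl i.sup hpar
  -- `A` centralises `⟨z^H⟩`
  apply h.nb
  refine le_trans (le_inf ?_ le_rfl) (h.fxr_inf_le tz mz)
  intro a ha
  rw [mem_fxr_orb]
  exact fun g _ => hT z tz g a (h.BT ha) (i.AX a ha)

end

end Cfsg.Agent.Omega.KL.StarR.Alt
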