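import Cfsg.Agent.Omega.KL.StarD.Def

/-!
# KL* with an object which the movers normalise (bb #24309 (6), #24934, #25079): the literals

* `SysR H M T A x Y` : the output: `SysB` (with `O(H) = 1`), `Y` invariant under `N_H(T)`, every `T`-minimal `P` fixes `x`
  or normalises `Y`, `C_Y(T) ≠ 1`, `x ∉ Y`;
* `Bad J Q Y` : an element `d` of odd order of `Q` with `[[Y, d], [J, d]] = 1` centralises `Y`;
* `InpR T A J Q Z Y` : the input.
-/

set_option autoImplicit false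

namespace Cfsg.Agent.Omega.KL.StarR

open Subgroup Cfsg Cfsg.Agent.ZN Cfsg.Agent.ClassTwoFusion.Quad Cfsg.Agent.Omega.ML.MinFrame
open Cfsg.Agent.MinSimple.MinParabolic (IsMinPar)

universe u v

/-- **the output** -/
structure SysR (H : Type u) [Group H] (M : Type v) [Group M] [MulDistribMulAction H M] (T A : Subgroup H)
    (x : M) (Y : Subgroup M) : Prop extends StarD.SysB H M T A x where
  NY : ∀ g ∈ normalizer (T : Set H), ∀ w ∈ Y, g • w ∈ Y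
  par : ∀ P : Subgroup H, IsMinPar T P → (∀ p ∈ P, p • x = x) ∨ ∀ p ∈ P, ∀ w ∈ Y, p • w ∈ Y
  ne : ∃ u ∈ Y, u ≠ 1 ∧ ∀ t ∈ T, t • u = u
  xY : x ∉ Y

/-- an element `d` of odd order of `Q` with `[[Y, d], [J, d]] = 1` centralises `Y` -/
def Bad {H : Type u} [Group H] {M : Type v} [Group M] [MulDistribMulAction H M] (J Q : Subgroup H)
    (Y : Subgroup M) : Prop :=
  ∀ d ∈ Q, Odd (orderOf d) → (∀ j ∈ J, ∀ w ∈ Y, (j * d * j⁻¹ * d⁻¹) • ((d • w) * w⁻¹) = (d • w) * w⁻¹) →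
    ∀ w ∈ Y, d • w = w

/-- the `T`-fixed vectors of `Y` are fixed by `H` -/
def Cen {H : Type u} [Group H] {M : Type v} [Group M] [MulDistribMulAction H M] (T : Subgroup H)
    (Y : Subgroup M) : Prop :=
  ∀ w ∈ Y, (∀ t ∈ T, t • w = w) → ∀ g : H, g • w = w

/-- **The input.**  Side 1 of [R-z]: `J = C_S(R)`, `Z = Z₀`, `Y = B`, `hb` by `Bad`; side 2: `J = 1`, `Z = ⟨e⟩`, `Y = R`,
`hb` by `Cen`. -/
structure InpR {H : Type u} [Group H] {M : Type v} [Group M] [MulDistribMulAction H M] (T A J Q : Subgroup H)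
    (Z Y : Subgroup M) : Prop where
  sq : ∀ m : M, m * m = 1
  two : IsPGroup 2 T
  syl : ¬ 2 ∣ T.index
  tZ : ∀ z ∈ Z, ∀ t ∈ T, t • z = z
  NZ : ∀ g ∈ normalizer (T : Set H), ∀ z ∈ Z, g • z ∈ Z
  NQ : normalizer (T : Set H) ≤ Q
  QY : ∀ q ∈ Q, ∀ w ∈ Y, q • w ∈ Y
  QJ : Q ≤ normalizer (J : Set H)
  JT : J ≤ T
  /-- a `T`-minimal `P` fixes `Z` pointwise, or its elements of odd order centralise `Y`, or it lies in `Q` and
  `A, J ≤ O₂(P)` -/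
  par : ∀ P : Subgroup H, IsMinPar T P → (∀ z ∈ Z, ∀ p ∈ P, p • z = z) ∨
    (∀ g ∈ P, Odd (orderOf g) → ∀ w ∈ Y, g • w = w) ∨ (A ≤ o2 P ∧ J ≤ o2 P ∧ P ≤ Q)
  sep : ∀ g ∈ Q, Odd (orderOf g) → ∀ z ∈ Z, ∀ y ∈ Y, g • (z * y) = z * y → g • z = z
  hb : Bad J Q Y ∨ Cen T Y
  el : ∀ a ∈ A, a * a = 1
  exact : (cv M (A : Set H)).index = Nat.card A
  atom : ∀ C : Subgroup H, C ≤ A → C ≠ ⊥ → C ≠ A → Nat.card C < (cv M (C : Set H)).index
  nA : ¬ A ≤ o2 (⊤ : Subgroup H)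
  AZ : A ≤ o2 (fxr H Z)
  AY : A ≤ o2 (fxr H Y ⊔ T)
  KH : IsKGroup H

end Cfsg.Agent.Omega.KL.StarR
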