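import Cfsg.Agent.Omega.KL.StarQ.CoreN
import Cfsg.Agent.Omega.KL.Star.ViaRed
import Cfsg.Agent.Omega.KL.StarR.Def

/-!
# The machine with an object `Y` which the movers normalise: the version for the nonsplit case of [R-z] (helper878)

This is helper345's `StarR.exists_sysR` (StarR/Core.lean) with a weaker `Bad`: the commutator hypothesis may be used for
all `m : M`.

`LB H M T A`, `x` a `T`-fixed vector.  Every `T`-minimal `P` fixes `x`, or its elements of odd order centralise `Y`, or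
`A, J ≤ O₂(P)` and `P ≤ Q`; some `T`-minimal `P` moves `x`, and for its elements `g` of odd order: `g` fixes `x y`,
`y ∈ Y` ⟹ `g` fixes `x`.

* **`exists_sysN`** : `SysR` (with `O(H') = 1`), the object is the image of `Y C_M(K₀ mod U₀) ∩ [M, K₀]`.
-/

set_option autoImplicit false

namespace Cfsg.Agent.Omega.KL.StarR

open Subgroup Cfsg Cfsg.Agent.ZN Cfsg.Agent.ClassTwoFusion.Quad
open Cfsg.Agent.Omega.ML.MinFrame hiding comm_of_sq
open Cfsg.Agent.Omega.ML.Final Cfsg.Agent.Omega.NO3S.EMany.Low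
open Cfsg.Agent.Omega.KL.Star.Core
open Cfsg.Agent.Omega.KL.Star
open Cfsg.Agent.Omega.KL.StarQ (not_top inf_normal bot_of_fix norm_one)
open Cfsg.Agent.MinSimple.VModule (o2_isPGroup o2_le le_o2 le_normalizer_o2 o2_le_of_sylow oddGen oddGen_le oddGen_def)
open Cfsg.Agent.MinSimple.MinParabolic (IsMinPar le_of_forall)

universe u v

/-- an element `d` of odd order of `Q` with `[[M, d], [J, d]] = 1` centralises `Y` -/
def BadM {H : Type u} [Group H] {M : Type v} [Group M] [MulDistribMulAction H M] (J Q : Subgroup H)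
    (Y : Subgroup M) : Prop :=
  ∀ d ∈ Q, Odd (orderOf d) → (∀ j ∈ J, ∀ w : M, (j * d * j⁻¹ * d⁻¹) • ((d • w) * w⁻¹) = (d • w) * w⁻¹) →
    ∀ w ∈ Y, d • w = w

section

variable {H : Type u} [Group H] [Finite H] {M : Type v} [Group M] [Finite M] [MulDistribMulAction H M]
  {T A : Subgroup H}

/-- **The machine with an object which the movers normalise.** -/
theorem exists_sysN (h : LB H M T A) (hM : MLK.{u, v}) {x : M} (tx : ∀ t ∈ T, t • x = x)
    {Y : Subgroup M} {J Q : Subgroup H} (NQ : normalizer (T : Set H) ≤ Q) (QY : ∀ q ∈ Q, ∀ w ∈ Y, q • w ∈ Y)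
    (QJ : Q ≤ normalizer (J : Set H)) (JT : J ≤ T)
    (hY : ¬ ∀ g : H, Odd (orderOf g) → ∀ w ∈ Y, g • w = w)
    (par : ∀ P : Subgroup H, IsMinPar T P → (∀ p ∈ P, p • x = x) ∨
      (∀ g ∈ P, Odd (orderOf g) → ∀ w ∈ Y, g • w = w) ∨ (A ≤ o2 P ∧ J ≤ o2 P ∧ P ≤ Q))
    (mv : ∃ P : Subgroup H, T ≤ P ∧ (∃ p ∈ P, p • x ≠ x) ∧
      ∀ g ∈ P, Odd (orderOf g) → ∀ y ∈ Y, g • (x * y) = x * y → g • x = x)
    (hb : BadM J Q Y ∨ Cen T Y) :
    ∃ (H' : Type u) (_ : Group H') (_ : Finite H') (N : Type v) (_ : Group N) (_ : Finite N)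
      (_ : MulDistribMulAction H' N) (T' A' : Subgroup H') (x' : N) (Y' : Subgroup N), SysR H' N T' A' x' Y' := by
  have hcomm := comm_of_sq h.sq
  have hx : ¬ ∀ g : H, g • x = x := by
    obtain ⟨P, -, ⟨p, -, hp⟩, -⟩ := mv
    exact fun hc => hp (hc p)
  have TQ : T ≤ Q := le_normalizer.trans NQ
  have TY : ∀ t ∈ T, ∀ w ∈ Y, t • w ∈ Y := fun t ht => QY t (TQ ht)
  -- the shift of `x`
  obtain ⟨x0, hx0, hx01⟩ := exists_fix_coset (T := T) (R := ⊤) h.sq (by rw [relIndex_top_right]; exact h.syl) tx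
    (I := cmm M A) (fun g _ => h.orb_eq tx g)
  obtain ⟨x1, hx1, hx1e⟩ : ∃ x1 ∈ cmm M A, x1 = x0 * x⁻¹ := ⟨_, hx01, rfl⟩
  have hs : ∀ g : H, g • x1 = x1 ↔ g • x = x := by
    intro g
    rw [hx1e, smul_mul', smul_inv', hx0 g (mem_top g), mul_right_inj, inv_inj]
  have tx1 : ∀ t ∈ T, t • x1 = x1 := fun t ht => (hs t).2 (tx t ht)
  have mx1 : ¬ ∀ g : H, g • x1 = x1 := fun hc => hx fun g => (hs g).1 (hc g)
  obtain ⟨u, ⟨hu1, hu2⟩, hu3⟩ := exists_vec h TY hY
  obtain ⟨H', j1, j2, N, j3, j4, j5, π, f, B, o⟩ := h.exists_out hM tx1 mx1 hx1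
  -- the object in `N`
  let E : Subgroup N := ((Y ⊔ wz M A h.sq).subgroupOf (cmm M A)).map f
  have hn : (wz M A h.sq).Normal := normal_of_sq h.sq _
  have hYW : ∀ g : H, (∀ w ∈ Y, g • w ∈ Y) → ∀ w ∈ Y ⊔ wz M A h.sq, g • w ∈ Y ⊔ wz M A h.sq := by
    intro g hg w hw
    obtain ⟨y, hy, w0, hw0, rfl⟩ := mem_sup_of_normal_right.1 hw
    rw [smul_mul']
    exact mul_mem (le_sup_left (a := Y) (hg y hy)) (le_sup_right (a := Y) (smul_mem_wz g hw0))
  have hE : ∀ g : H, (∀ w ∈ Y, g • w ∈ Y) → ∀ w ∈ E, π g • w ∈ E := by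
    rintro g hg _ ⟨w, hw, rfl⟩
    refine ⟨⟨g • (w : M), smul_mem_cmm g w.2⟩, hYW g hg _ hw, ?_⟩
    exact o.eqv g w
  have hE1 : E ≠ ⊥ := by
    intro h1
    have h2 : f ⟨u, hu2⟩ ∈ E := ⟨⟨u, hu2⟩, hu1, rfl⟩
    rw [h1, mem_bot, o.ker] at h2
    exact hu3 h2
  -- elements of odd order which centralise `Y` fix `E`
  have hsu : ∀ g : H, Odd (orderOf g) → (∀ w ∈ Y, g • w = w) → ∀ w ∈ E, π g • w = w := by
    rintro g hg hgY _ ⟨w, hw, rfl⟩
    rw [← o.eqv, ← mul_inv_eq_one, ← map_inv, ← map_mul, o.ker]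
    change (g • (w : M)) * (w : M)⁻¹ ∈ _
    have hgK : g ∈ Km A := mem_of_odd h.two h.gen hg
    have hw' : (w : M) ∈ Y ⊔ wz M A h.sq := hw
    obtain ⟨y, hy, w0, hw0, hyw⟩ := mem_sup_of_normal_right.1 hw'
    rw [← hyw]
    have e : g • (y * w0) * (y * w0)⁻¹ = (g • w0) * w0⁻¹ := by
      rw [smul_mul', hgY y hy, mul_inv_rev, hcomm y]
      calc g • w0 * y * (w0⁻¹ * y⁻¹) = g • w0 * (y * w0⁻¹) * y⁻¹ := by group
        _ = g • w0 * (w0⁻¹ * y) * y⁻¹ := by rw [hcomm y w0⁻¹]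
        _ = _ := by group
    rw [e]
    exact hw0 g hgK
  have him : ∀ {m : M} (hm : m ∈ cmm M A) {g : H}, g • m = m → π g • f ⟨m, hm⟩ = f ⟨m, hm⟩ := by
    intro m hm g hg
    rw [← o.eqv g ⟨m, hm⟩]
    exact congrArg f (Subtype.ext hg)
  have htx : ∀ t ∈ T.map π, t • f ⟨x1, hx1⟩ = f ⟨x1, hx1⟩ := by
    rintro _ ⟨t, ht, rfl⟩
    exact him hx1 (tx1 t ht)
  have nx1 : f ⟨x1, hx1⟩ ≠ 1 := by
    rw [Ne, o.ker]
    exact fun hc => mx1 fun g => h.fix_of_cvKm tx1 hc g
  -- `x' ∉ E`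
  have hxE : f ⟨x1, hx1⟩ ∉ E := by
    rintro ⟨w, hw, hwx⟩
    obtain ⟨P, hPm, ⟨p, hp, hpx⟩, hsep⟩ := mv
    have h1 : (w : M) * x1⁻¹ ∈ cv M (Km A : Set H) := by
      have h2 : f (w * (⟨x1, hx1⟩ : ↥(cmm M A))⁻¹) = 1 := by rw [map_mul, map_inv, hwx, mul_inv_cancel]
      exact (o.ker _).1 h2
    have hcw : cv M (Km A : Set H) ≤ wz M A h.sq := by
      intro m hm k hk
      rw [hm k hk, mul_inv_cancel]
      exact one_mem _
    have h2 : x1 ∈ Y ⊔ wz M A h.sq := by
      have e : x1 = ((w : M) * x1⁻¹)⁻¹ * w := by group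
      rw [e]
      exact mul_mem (inv_mem (le_sup_right (a := Y) (hcw h1))) hw
    have h3 : x ∈ Y ⊔ wz M A h.sq := by
      have e : x = x1⁻¹ * x0 := by
        rw [hx1e, mul_inv_rev, inv_inv, mul_assoc, inv_mul_cancel, mul_one]
      rw [e]
      refine mul_mem (inv_mem h2) (le_sup_right (a := Y) (hcw fun k _ => hx0 k (mem_top k)))
    obtain ⟨y, hy, w0, hw0, hyw⟩ := mem_sup_of_normal_right.1 h3
    -- the elements of odd order of `P` fix `x`
    have h4 : ∀ g ∈ P, Odd (orderOf g) → g • x = x := by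
      intro g hg hgo
      refine hsep g hg hgo y⁻¹ (inv_mem hy) ?_
      have hgK : g ∈ Km A := mem_of_odd h.two h.gen hgo
      have e : x * y⁻¹ = w0 := by rw [← hyw, hcomm y w0, mul_assoc, mul_inv_cancel, mul_one]
      rw [e]
      exact fix_of_odd h.sq hgo (hw0 g hgK g hgK)
    have h5 : oddGen P ⊔ T = P := oddGen_sup hPm
      fun h2 => h.syl (h2.trans (relIndex_dvd_index_of_le hPm))
    have h6 : P ≤ MulAction.stabilizer H x := by
      rw [← h5]
      refine sup_le ?_ fun t ht => tx t ht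
      rw [oddGen_def, closure_le]
      rintro g ⟨hgP, hgo⟩
      exact h4 g hgP hgo
    exact hpx (h6 hp)
  -- a `T`-fixed vector of `E`
  obtain ⟨u', hu', hu'1, tu'⟩ := exists_fix o.lb.sq (h.two.map π) (fun t ht w hw => by
    obtain ⟨s, hs', rfl⟩ := ht
    exact hE s (TY s hs') w hw) hE1
  have hxu : f ⟨x1, hx1⟩ ≠ u' := fun he => hxE (he ▸ hu')
  -- the parabolics
  have parE : ∀ P : Subgroup H, IsMinPar T P → (∃ m : N, m ≠ 1 ∧ ∀ p ∈ P.map π, p • m = m) ∨
      (A ≤ o2 P ∧ J ≤ o2 P ∧ P ≤ Q) := by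
    intro P hP
    rcases par P hP with h1 | h1 | h1
    · left
      refine ⟨_, nx1, ?_⟩
      rintro _ ⟨q, hq, rfl⟩
      exact him hx1 ((hs q).2 (h1 q hq))
    · left
      refine ⟨u', hu'1, ?_⟩
      have h3 : oddGen P ⊔ T = P := oddGen_sup hP.le
        fun h2 => h.syl (h2.trans (relIndex_dvd_index_of_le hP.le))
      have h4 : P ≤ (MulAction.stabilizer H' u').comap π := by
        rw [← h3]
        refine sup_le ?_ fun t ht => tu' (π t) ⟨t, ht, rfl⟩
        rw [oddGen_def, closure_le]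
        rintro g ⟨hgP, hgo⟩
        exact hsu g hgo (h1 g hgP hgo) u' hu'
      rintro _ ⟨q, hq, rfl⟩
      exact h4 hq
    · exact Or.inr h1
  -- no vector is fixed by `H'`
  have hnofix : ∀ m : N, m ≠ 1 → ¬ ∀ g : H', g • m = m := by
    intro m hm hc
    have h1 : (⊤ : Subgroup H') = ⊥ := bot_of_fix o.faith o.irr inferInstance hm fun g _ => hc g
    apply o.lb.B1
    rw [eq_bot_iff, ← h1]
    exact le_top
  have nmax : ¬ ∃ L : Subgroup H', L ≠ ⊤ ∧ ∀ R : Subgroup H', T.map π ≤ R → R ≠ ⊤ → R ≤ L := by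
    rintro ⟨L, hL, hLm⟩
    by_cases hn : (⊤ : Subgroup H') ≤ normalizer ((T.map π : Subgroup H') : Set H')
    · exact o.lb.nb (o.lb.BT.trans (le_o2 le_top o.lb.two hn))
    · obtain ⟨P, hP, hPt⟩ := KL.GenTool.exists_minPar_map π o.πs
        (P' := ⊤) ⟨le_top, hn, L, lt_top_iff_ne_top.2 hL, fun K hK hlt => hLm K hK hlt.ne⟩
      rcases parE P hP with ⟨m, hm, h1⟩ | ⟨h1, -, -⟩
      · rw [hPt] at h1
        exact hnofix m hm fun g => h1 g (mem_top g)
      · apply o.lb.nb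
        have h2 := (map_mono (f := π) h1).trans (KL.GenTool.o2_map_le π P)
        rw [hPt] at h2
        exact o.AB.trans h2
  -- the kernel of `π` centralises `U¹`
  have hkx1 : ∀ k ∈ π.ker ⊔ T, k • x1 = x1 := by
    refine h.fix_of_mod tx1 le_sup_right (I := cv M (Km A : Set H))
      (fun w hw tw g _ => h.fix_of_cvKm tw hw g) fun k hk => ?_
    have h1 : π k • f ⟨x1, hx1⟩ = f ⟨x1, hx1⟩ := by
      obtain ⟨k1, hk1, s, hs', rfl⟩ := mem_sup_of_normal_left.1 hk
      rw [map_mul, (MonoidHom.mem_ker).1 hk1, one_mul]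
      exact him hx1 (tx1 s hs')
    rw [← o.eqv k ⟨x1, hx1⟩, ← mul_inv_eq_one, ← map_inv, ← map_mul, o.ker] at h1
    exact h1
  have hkU : ∀ k ∈ π.ker, ∀ w ∈ cmm M A, k • w = w := by
    intro k hk w hw
    have h1 : k ∈ fxr H (orb (⊤ : Subgroup H) x1) := by
      rw [mem_fxr_orb]
      intro s _
      have h2 := hkx1 (s⁻¹ * k * s) (by
        have := (inferInstance : (π.ker).Normal).conj_mem k hk s⁻¹
        rw [inv_inv] at this
        exact mem_sup_left this)
      rwa [mul_smul, mul_smul, inv_smul_eq_iff] at h2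
    exact h1 w (h.cmm_le hM tx1 mx1 hw)
  refine ⟨H', j1, j2, N, j3, j4, j5, T.map π, B, f ⟨x1, hx1⟩, E, ?_⟩
  refine ⟨⟨nx1, htx, o.lb.sq, o.faith, o.irr, o.lb.two, o.lb.syl, o.lb.BT, o.lb.el,
    four_le o.lb.sq o.faith o.irr o.lb htx tu' nx1 hu'1 hxu, o.lb.exact, o.lb.atom, o.lb.low, nmax, ?_, o.lb.KH⟩,
    ?_, ?_, ⟨u', hu', hu'1, tu'⟩, hxE⟩
  · -- no normal subgroup of odd order
    intro K hK hKo
    -- the `T'`-minimal subgroups of `K T'`
    have hmin : ∀ P' : Subgroup H', IsMinPar (T.map π) P' → P' ≤ K ⊔ T.map π →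
        P' ≤ Q.map π ∧ J.map π ≤ o2 P' ∧ P' ⊓ K ⊔ T.map π = P' := by
      intro P' hP' hPK
      obtain ⟨P, hP, rfl⟩ := KL.GenTool.exists_minPar_map π o.πs hP'
      obtain ⟨hn1, hn2⟩ := inf_normal o.lb nmax hK hKo hP'.le hPK
      rcases parE P hP with ⟨m, hm, h1⟩ | ⟨h1, h2, h3⟩
      · have h6 := bot_of_fix o.faith o.irr hn1 hm fun n hn => h1 n hn.1
        rw [h6, bot_sup_eq] at hn2
        exact (hP'.ne hn2).elim
      · exact ⟨map_mono h3, (map_mono h2).trans (KL.GenTool.o2_map_le π P), hn2⟩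
    -- `K ≤ π(Q)`
    have hKN : K ≤ Q.map π := by
      have hle : K ⊔ T.map π ≤ Q.map π := by
        refine le_of_forall le_sup_right ?_ fun P' hP' hPK => (hmin P' hP' hPK).1
        rintro ν ⟨-, hν⟩
        obtain ⟨_, ⟨t, ht, rfl⟩, n, hn, rfl⟩ := KL.GenTool.exists_normalizer_map π o.πs h.two h.syl hν
        exact mul_mem ⟨t, TQ ht, rfl⟩ ⟨n, NQ hn, rfl⟩
      exact le_sup_left.trans hle
    have hT2 : IsPGroup 2 (T.map π) := o.lb.two
    -- the elements of odd order in the preimage of `K` centralise `Y`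
    have hDY : ∀ g ∈ Q, π g ∈ K → Odd (orderOf g) → ∀ w ∈ Y, g • w = w := by
      rcases hb with bad | cY
      · -- `π(J)` centralises `K`
        let C : Subgroup H' := K ⊓ centralizer ((J.map π : Subgroup H') : Set H')
        have hTC : T.map π ≤ normalizer (C : Set H') := by
          have hconj : ∀ t ∈ T.map π, ∀ c ∈ C, t * c * t⁻¹ ∈ C := by
            rintro _ ⟨t, ht, rfl⟩ c hc
            refine ⟨hK.conj_mem c hc.1 _, mem_centralizer_iff.2 ?_⟩
            rintro _ ⟨j, hj, rfl⟩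
            have h1 : t⁻¹ * j * t ∈ J := by
              have := (mem_normalizer_iff.1 (QJ (TQ (T.inv_mem ht))) j).1 hj
              rwa [inv_inv] at this
            have h2 := mem_centralizer_iff.1 hc.2 _ ⟨_, h1, rfl⟩
            rw [map_mul, map_mul, map_inv] at h2
            have h3 := congrArg (fun w => π t * w * (π t)⁻¹) h2
            calc π j * (π t * c * (π t)⁻¹) = π t * ((π t)⁻¹ * π j * π t * c) * (π t)⁻¹ := by group
              _ = π t * (c * ((π t)⁻¹ * π j * π t)) * (π t)⁻¹ := h3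
              _ = π t * c * (π t)⁻¹ * π j := by group
          intro t ht
          rw [mem_normalizer_iff]
          intro c
          refine ⟨fun hc => hconj t ht c hc, fun hc => ?_⟩
          have h1 := hconj t⁻¹ ((T.map π).inv_mem ht) _ hc
          have e : t⁻¹ * (t * c * t⁻¹) * t⁻¹⁻¹ = c := by group
          rwa [e] at h1
        have hKC : K ⊔ T.map π ≤ C ⊔ T.map π := by
          refine le_of_forall (S := T.map π) le_sup_right ?_ ?_
          · rintro ν ⟨hν1, hν2⟩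
            obtain ⟨k, hk, t, ht, rfl⟩ := mem_sup_of_normal_left.1 hν1
            refine mul_mem_sup ⟨hk, mem_centralizer_iff.2 ?_⟩ ht
            have hkT : k ∈ normalizer ((T.map π : Subgroup H') : Set H') := by
              have h1 := (normalizer ((T.map π : Subgroup H') : Set H')).mul_mem hν2 (inv_mem (le_normalizer ht))
              rwa [mul_inv_cancel_right] at h1
            intro s hs'
            have hsT : s ∈ T.map π := map_mono JT hs'
            have h1 : s * k * s⁻¹ * k⁻¹ ∈ K := mul_mem (hK.conj_mem k hk s) (inv_mem hk)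
            have h2 : s * k * s⁻¹ * k⁻¹ ∈ T.map π := by
              have h3 := (mem_normalizer_iff.1 hkT s⁻¹).1 (inv_mem hsT)
              have h4 := mul_mem hsT h3
              have e : s * (k * s⁻¹ * k⁻¹) = s * k * s⁻¹ * k⁻¹ := by group
              rwa [e] at h4
            have h3 := eq_one_of_odd hKo hT2 h1 h2
            calc s * k = s * k * s⁻¹ * k⁻¹ * (k * s) := by group
              _ = k * s := by rw [h3, one_mul]
          · intro P' hP' hPK
            obtain ⟨-, h1, h2⟩ := hmin P' hP' hPK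
            rw [← h2]
            refine sup_le_sup_right ?_ _
            rintro k ⟨hkP, hkK⟩
            refine ⟨hkK, mem_centralizer_iff.2 fun s hs' => ?_⟩
            have h3 : s * k * s⁻¹ * k⁻¹ ∈ K := mul_mem (hK.conj_mem k hkK s) (inv_mem hkK)
            have h4 : s * k * s⁻¹ * k⁻¹ ∈ o2 P' := by
              have h5 := (mem_normalizer_iff.1 (le_normalizer_o2 P' hkP) s⁻¹).1 (inv_mem (h1 hs'))
              have h6 := mul_mem (h1 hs') h5
              have e : s * (k * s⁻¹ * k⁻¹) = s * k * s⁻¹ * k⁻¹ := by group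
              rwa [e] at h6
            have h5 := eq_one_of_odd hKo (o2_isPGroup P') h3 h4
            calc s * k = s * k * s⁻¹ * k⁻¹ * (k * s) := by group
              _ = k * s := by rw [h5, one_mul]
        have hKJ : ∀ κ ∈ K, ∀ j ∈ J, π j * κ = κ * π j := by
          intro κ hκ j hj
          have h1 : κ ∈ ((C ⊔ T.map π : Subgroup H') : Set H') := hKC (mem_sup_left hκ)
          rw [coe_mul_of_right_le_normalizer_left C (T.map π) hTC] at h1
          obtain ⟨c, hc, t, ht, rfl⟩ := h1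
          have h3 : t ∈ K := by
            have := K.mul_mem (K.inv_mem hc.1) hκ
            simpa using this
          have h4 : t = 1 := eq_one_of_odd hKo hT2 h3 ht
          rw [h4]
          simp only [mul_one]
          exact mem_centralizer_iff.1 hc.2 _ ⟨j, hj, rfl⟩
        intro g hg hgK hgo
        refine bad g hg hgo fun j hj w => ?_
        refine hkU _ ?_ _ (mem_cmm (mem_of_odd h.two h.gen hgo) w)
        rw [MonoidHom.mem_ker, map_mul, map_mul, map_mul, map_inv, map_inv, hKJ _ hgK j hj]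
        group
      · -- `[Y ∩ U¹, D] = 1`
        let D : Subgroup H := Q ⊓ K.comap π ⊓ Km A
        have hDm : D.map π ≤ K := by
          rintro _ ⟨g, hg, rfl⟩
          exact hg.1.2
        have hDo : Odd (Nat.card (D.map π)) := hKo.of_dvd_nat (card_dvd_of_le hDm)
        have hDU : ∀ g ∈ D, ∀ m ∈ Y ⊓ cmm M A, g • m ∈ Y ⊓ cmm M A := fun g hg m hm =>
          ⟨QY g hg.1.1 m hm.1, smul_mem_cmm g hm.2⟩
        let W : Subgroup M := closure {w : M | ∃ g ∈ D, ∃ y ∈ ((Y ⊓ cmm M A : Subgroup M) : Set M), w = (g • y) * y⁻¹}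
        have hWY : W ≤ Y ⊓ cmm M A := by
          rw [closure_le]
          rintro _ ⟨g, hg, y, hy, rfl⟩
          exact mul_mem (hDU g hg y hy) (inv_mem hy)
        have hDT : ∀ t ∈ T, ∀ g ∈ D, t * g * t⁻¹ ∈ D := by
          intro t ht g hg
          refine ⟨⟨Q.mul_mem (Q.mul_mem (TQ ht) hg.1.1) (Q.inv_mem (TQ ht)), ?_⟩, ?_⟩
          · exact (inferInstance : (K.comap π).Normal).conj_mem g hg.1.2 t
          · exact (inferInstance : (Km A).Normal).conj_mem g hg.2 t
        have hTW : ∀ t ∈ T, ∀ w ∈ W, t • w ∈ W := by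
          intro t ht w hw
          have h1 : W ≤ W.comap (MulDistribMulAction.toMonoidHom M t) := by
            rw [closure_le]
            rintro _ ⟨g, hg, y, hy, rfl⟩
            change t • ((g • y) * y⁻¹) ∈ W
            refine subset_closure ⟨t * g * t⁻¹, hDT t ht g hg, t • y, ⟨TY t ht y hy.1, smul_mem_cmm t hy.2⟩, ?_⟩
            rw [smul_mul', smul_inv', ← mul_smul, ← mul_smul, inv_mul_cancel_right]
          exact h1 hw
        have hW1 : W = ⊥ := by
          by_contra hne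
          obtain ⟨w, hw, hw1, tw⟩ := exists_fix h.sq h.two hTW hne
          exact hw1 (norm_one h.sq π (U := cmm M A) hkU hDo (fun m hm => hm.2) hw
            fun g _ => cY w (hWY hw).1 tw g)
        intro g hgQ hgK hgo w hw
        have hg : g ∈ D := ⟨⟨hgQ, hgK⟩, mem_of_odd h.two h.gen hgo⟩
        refine fix_of_odd h.sq hgo ?_
        have h1 : (g • w) * w⁻¹ ∈ ((Y ⊓ cmm M A : Subgroup M) : Set M) :=
          ⟨Y.mul_mem (QY g hgQ w hw) (Y.inv_mem hw), mem_cmm hg.2 w⟩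
        have h2 : (g • ((g • w) * w⁻¹)) * ((g • w) * w⁻¹)⁻¹ ∈ W := subset_closure ⟨g, hg, _, h1, rfl⟩
        rw [hW1, mem_bot] at h2
        exact mul_inv_eq_one.1 h2
    refine bot_of_fix o.faith o.irr hK hu'1 fun κ hκ => ?_
    obtain ⟨g, hg, rfl⟩ := hKN hκ
    -- the odd part of `g`
    obtain ⟨a, m, hm, ha⟩ := Nat.exists_eq_pow_mul_and_not_dvd (orderOf_pos g).ne' 2 (by norm_num)
    have hm' : Odd m := Nat.not_even_iff_odd.1 fun h => hm h.two_dvd
    have hgo : orderOf (g ^ 2 ^ a) = m := by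
      rw [orderOf_pow_of_dvd (by positivity) (ha ▸ Dvd.intro _ rfl), ha, Nat.mul_div_cancel_left _ (by positivity)]
    have hgo' : Odd (orderOf (g ^ 2 ^ a)) := hgo ▸ hm'
    have h1 : π g ^ 2 ^ a • u' = u' := by
      rw [← map_pow]
      refine hsu _ hgo' (hDY _ (pow_mem hg _) ?_ hgo') u' hu'
      rw [map_pow]
      exact K.pow_mem hκ _
    have h2 : (2 ^ a).Coprime (orderOf (π g)) := by
      have h3 : orderOf (π g) ∣ Nat.card K := by
        have := orderOf_dvd_natCard (⟨π g, hκ⟩ : K)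
        rwa [orderOf_mk] at this
      exact Nat.Coprime.pow_left a (Nat.coprime_two_left.mpr (hKo.of_dvd_nat h3))
    obtain ⟨j, hj⟩ := exists_pow_eq_self_of_coprime h2
    have h3 : (π g ^ 2 ^ a) ^ j ∈ MulAction.stabilizer H' u' := pow_mem h1 j
    rw [hj] at h3
    exact h3
  · -- `N_{H'}(T')` normalises `E`
    intro ν hν w hw
    obtain ⟨_, ⟨t, ht, rfl⟩, n, hn, rfl⟩ := KL.GenTool.exists_normalizer_map π o.πs h.two h.syl hν
    rw [mul_smul]
    exact hE t (TY t ht) _ (hE n (QY n (NQ hn)) w hw)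
  · intro P' hP'
    obtain ⟨P, hP, rfl⟩ := KL.GenTool.exists_minPar_map π o.πs hP'
    rcases par P hP with h1 | h1 | ⟨-, -, h3⟩
    · left
      rintro _ ⟨q, hq, rfl⟩
      exact him hx1 ((hs q).2 (h1 q hq))
    · right
      have h3 : oddGen P ⊔ T = P := oddGen_sup hP.le
        fun h2 => h.syl (h2.trans (relIndex_dvd_index_of_le hP.le))
      have h4 : P ≤ (ViaRed.nst H' E).comap π := by
        rw [← h3]
        refine sup_le ?_ fun t ht => ViaRed.mem_nst (hE t (TY t ht))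
        rw [oddGen_def, closure_le]
        rintro g ⟨hgP, hgo⟩
        refine ViaRed.mem_nst fun w hw => ?_
        rw [hsu g hgo (h1 g hgP hgo) w hw]
        exact hw
      rintro _ ⟨q, hq, rfl⟩ w hw
      exact ViaRed.nst_mem (h4 hq) hw
    · right
      rintro _ ⟨q, hq, rfl⟩ w hw
      exact hE q (QY q (h3 hq)) w hw

end

end Cfsg.Agent.Omega.KL.StarR
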