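import Cfsg.Agent.Omega.KL.StarQ.MainD
import Cfsg.Agent.Omega.KL.StarR.Core

/-!
# KL* with an object which the movers normalise (bb #24309 (6), both sides, with `O(H) = 1`; #24934, #25079)

* `SysR.exists_mv` : (`RedP`) some overgroup of `T` fixes a `T`-fixed vector `≠ 1` and moves another `T`-fixed vector;
* **`InpR.exists_sysT`** : (ML), `RedP` : `Two.SysT` for a section of `(H, M)`;  **`InpR.false_of`** : contradiction
  with `Two.Ext`.
-/

set_option autoImplicit false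

namespace Cfsg.Agent.Omega.KL.StarR

open Subgroup Cfsg Cfsg.Agent.ZN Cfsg.Agent.ClassTwoFusion.Quad
open Cfsg.Agent.Omega.ML.MinFrame hiding comm_of_sq
open Cfsg.Agent.Omega.ML.Final Cfsg.Agent.Omega.NO3S.EMany.Low
open Cfsg.Agent.Omega.KL.Star.Core
open Cfsg.Agent.Omega.KL.StarQ (exists_min)
open Cfsg.Agent.Omega.NO3b.EndX (RedP)
open Cfsg.Agent.MinSimple.VModule (o2_isPGroup o2_le le_o2 le_normalizer_o2 o2_le_of_sylow oddGen oddGen_le oddGen_def)
open Cfsg.Agent.MinSimple.MinParabolic (IsMinPar le_of_forall)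

universe u v

/-- **movers** -/
theorem SysR.exists_mv {H : Type u} [Group H] [Finite H] {M : Type v} [Group M] [Finite M] [MulDistribMulAction H M]
    {T A : Subgroup H} {x : M} {Y : Subgroup M} (hR : RedP.{u, v}) (h : SysR H M T A x Y) :
    ∃ x y : M, ML.Ex.Two.Mv T x y := by
  obtain ⟨u, hu, hu1, tu⟩ := h.ne
  refine Star.ViaRed.Sit.exists_mv (F := A) (Y := Y) (z := x) (u := u) hR
    ⟨h.sq, h.faith, h.irr, h.two, h.syl, h.AT, ?_, h.el, h.low, h.exact, h.nmax, h.NY, h.par, h.tx, tu, hu, hu1, h.xY⟩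
    h.KH fun F hF hFo => h.odd F hF hFo
  intro hA
  have h1 := h.four
  rw [hA, card_bot] at h1
  omega

namespace InpR

variable {H : Type u} [Group H] [Finite H] {M : Type v} [Group M] [Finite M] [MulDistribMulAction H M]
  {T A J Q : Subgroup H} {Z Y : Subgroup M}

omit [Finite M] in
theorem AT (i : InpR T A J Q Z Y) : A ≤ T :=
  i.AZ.trans (o2_le_of_sylow i.two fun h2 => i.syl (h2.trans (relIndex_dvd_index_of_le fun t ht z hz => i.tZ z hz t ht)))

/-- **the machine** -/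
theorem exists_sysR (i : InpR T A J Q Z Y) (hM : MLK.{u, v}) :
    ∃ (H' : Type u) (_ : Group H') (_ : Finite H') (N : Type v) (_ : Group N) (_ : Finite N)
      (_ : MulDistribMulAction H' N) (T' A' : Subgroup H') (x' : N) (Y' : Subgroup N), SysR H' N T' A' x' Y' := by
  obtain ⟨L, hTL, hAL, hlb, hNN⟩ := exists_min i.sq i.two i.syl i.AT i.el i.exact i.atom i.nA i.KH
  have hAT := i.AT
  have hAL' : A ≤ L := hAT.trans hTL
  -- a `T`-minimal subgroup of `L` which moves `Z`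
  obtain ⟨P, hPm, hPZ⟩ : ∃ P : Subgroup L, IsMinPar (T.subgroupOf L) P ∧
      ¬ ∀ z ∈ Z, ∀ p ∈ P, p • z = z := by
    by_contra hc
    push Not at hc
    apply hAL
    -- `C_L(Z)` is normal in `L`
    let F : Subgroup H := fxr H Z ⊓ L
    have hTF : T ≤ F := le_inf (fun t ht z hz => i.tZ z hz t ht) hTL
    have h1 : (⊤ : Subgroup L) ≤ (normalizer (F : Set H)).subgroupOf L := by
      refine le_of_forall (S := T.subgroupOf L) le_top (fun g hg => ?_) fun P hP _ p hp => ?_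
      · rw [mem_subgroupOf]
        have hg1 := hNN g hg.2
        have hconj : ∀ k : H, k ∈ normalizer (T : Set H) → k ∈ L → ∀ w ∈ F, k * w * k⁻¹ ∈ F := by
          intro k hk hkL w hw
          refine ⟨fun z hz => ?_, L.mul_mem (L.mul_mem hkL hw.2) (L.inv_mem hkL)⟩
          have h2 := hw.1 _ (i.NZ k⁻¹ (inv_mem hk) z hz)
          rw [mul_smul, mul_smul, h2, smul_inv_smul]
        rw [mem_normalizer_iff]
        intro w
        refine ⟨hconj g hg1 g.2 w, fun hw => ?_⟩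
        have h2 := hconj (g : H)⁻¹ (inv_mem hg1) (L.inv_mem g.2) _ hw
        have e : (g : H)⁻¹ * (g * w * (g : H)⁻¹) * (g : H)⁻¹⁻¹ = w := by group
        rwa [e] at h2
      · rw [mem_subgroupOf]
        exact le_normalizer (show (p : H) ∈ F from ⟨fun z hz => hc P hP z hz p hp, p.2⟩)
    have h2 : L ≤ normalizer (F : Set H) := fun g hg => h1 (mem_top (⟨g, hg⟩ : L))
    exact (le_inf i.AZ (hAT.trans hTF)).trans
      ((InpG.o2_le_o2_of_le inf_le_left).trans (o2_le_o2 inf_le_right h2))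
  have hsep : (∀ g ∈ P, Odd (orderOf g) → ∀ w ∈ Y, g • w = w) ∨ P ≤ Q.subgroupOf L := by
    rcases i.par _ (KL.GenTool.minPar_map_subtype hTL hPm) with h1 | h1 | ⟨-, -, h1⟩
    · exact (hPZ fun z hz p hp => h1 z hz _ ⟨p, hp, rfl⟩).elim
    · refine Or.inl fun g hg hgo w hw => h1 _ ⟨g, hg, rfl⟩ ?_ w hw
      rwa [Subgroup.coe_subtype, orderOf_coe]
    · exact Or.inr fun p hp => h1 ⟨p, hp, rfl⟩
  push Not at hPZ
  obtain ⟨x, hxZ, p, hp, hpx⟩ := hPZ
  have htx : ∀ t ∈ T.subgroupOf L, t • x = x := fun t ht => i.tZ x hxZ _ ht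
  -- `L ≠ C_L(Y) T`
  have hY : ¬ ∀ g : L, Odd (orderOf g) → ∀ w ∈ Y, g • w = w := by
    intro hc
    apply hAL
    have h1 : oddGen L ⊔ T = L := oddGen_sup hTL fun h2 => i.syl (h2.trans (relIndex_dvd_index_of_le hTL))
    have h2 : L ≤ fxr H Y ⊔ T := by
      rw [← h1]
      refine sup_le_sup_right ?_ T
      rw [oddGen_def, closure_le]
      rintro g ⟨hgL, hgo⟩ w hw
      exact hc ⟨g, hgL⟩ (by rwa [orderOf_mk]) w hw
    exact (le_inf i.AY hAL').trans (InpG.o2_le_o2_of_le h2)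
  refine StarR.exists_sysR hlb hM htx (Y := Y) (J := J.subgroupOf L) (Q := Q.subgroupOf L)
    (fun g hg => i.NQ (hNN g hg)) (fun q hq w hw => i.QY _ hq w hw) ?_ (fun j hj => i.JT hj) hY (fun R hR => ?_)
    ⟨P, hPm.le, ⟨p, hp, hpx⟩, fun g hg hgo y hy hgy => ?_⟩ ?_
  · intro q hq
    have h1 := i.QJ (show (q : H) ∈ Q from hq)
    rw [mem_normalizer_iff] at h1 ⊢
    exact fun j => h1 j
  · rcases i.par _ (KL.GenTool.minPar_map_subtype hTL hR) with h1 | h1 | ⟨h1, h2, h3⟩
    · exact Or.inl fun q hq => h1 x hxZ _ ⟨q, hq, rfl⟩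
    · refine Or.inr (Or.inl fun g hg hgo w hw => h1 _ ⟨g, hg, rfl⟩ ?_ w hw)
      rwa [Subgroup.coe_subtype, orderOf_coe]
    · exact Or.inr (Or.inr ⟨fun a ha => KL.GenTool.o2_subgroupOf_le R (h1 ha),
        fun a ha => KL.GenTool.o2_subgroupOf_le R (h2 ha), fun q hq => h3 ⟨q, hq, rfl⟩⟩)
  · rcases hsep with h1 | h1
    · have h2 := h1 g hg hgo y hy
      rw [smul_mul', h2] at hgy
      exact mul_right_cancel hgy
    · exact i.sep (g : H) (h1 hg) (by rwa [orderOf_coe]) x hxZ y hy hgy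
  · rcases i.hb with h1 | h1
    · left
      intro d hd hdo hcom
      refine h1 (d : H) hd (by rwa [orderOf_coe]) fun j hj w hw => ?_
      exact hcom ⟨j, hTL (i.JT hj)⟩ hj w hw
    · right
      exact fun w hw tw g => h1 w hw (fun t ht => tw ⟨t, hTL ht⟩ ht) g

/-- **KL* with an object which the movers normalise** -/
theorem exists_sysT (i : InpR T A J Q Z Y) (hM : MLK.{u, v}) (hR : RedP.{u, v}) :
    ∃ (H' : Type u) (_ : Group H') (_ : Finite H') (N : Type v) (_ : Group N) (_ : Finite N)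
      (_ : MulDistribMulAction H' N) (T' A' : Subgroup H') (x' y' : N), ML.Ex.Two.SysT H' N T' A' x' y' := by
  obtain ⟨H', i1, i2, N, i3, i4, i5, T', A', x', Y', h⟩ := i.exists_sysR hM
  obtain ⟨x, y, hm⟩ := h.exists_mv hR
  exact ⟨H', i1, i2, N, i3, i4, i5, T', A', x, y, h.toSysB.sysT hm⟩

/-- **KL* with an object which the movers normalise**, with EXT -/
theorem false_of (i : InpR T A J Q Z Y) (hM : MLK.{u, v}) (hR : RedP.{u, v}) (hE : ML.Ex.Two.Ext.{u, v}) : False := by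
  obtain ⟨H', i1, i2, N, i3, i4, i5, T', A', x', y', h⟩ := i.exists_sysT hM hR
  exact hE H' N T' A' x' y' h

end InpR

end Cfsg.Agent.Omega.KL.StarR
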