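import Cfsg.Agent.Omega.KL.StarQ.CoreN
import Cfsg.Agent.Omega.KL.Star.Mix
import Cfsg.Agent.Omega.NOThreeL.RZ.TwoC.LemT
import Cfsg.Agent.Omega.KL.StarR.CoreN
import Cfsg.Agent.Omega.KL.StarR.Main

/-!
# The nonsplit case of [R-z], side 1, with a weaker `bad` (after helper878's `Alt.lean`, `AltN.lean`; bb #24731, #26560)

As `AltIn`, `InpN`, but the conclusion of `bad` is only: `d` centralises `Rm` (and `X`), while its hypothesis may be used
for all `w ∈ Y`.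

* `AltInM.false_of`;  **`InpM.false_of`**.
-/

set_option autoImplicit false

namespace Cfsg.Agent.Omega.KL.StarR.AltM

open Subgroup Cfsg Cfsg.Agent.ZN Cfsg.Agent.ClassTwoFusion.Quad
open Cfsg.Agent.Omega.ML.MinFrame hiding comm_of_sq
open Cfsg.Agent.Omega.ML.Final Cfsg.Agent.Omega.NO3S.EMany.Low
open Cfsg.Agent.Omega.KL.Star.Core Cfsg.Agent.Omega.KL.Star.Mix Cfsg.Agent.Omega.KL.StarQ
open Cfsg.Agent.MinSimple.VModule (o2_isPGroup o2_le le_o2 le_normalizer_o2 o2_le_of_sylow oddGen oddGen_le oddGen_def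
  mem_oddGen)
open Cfsg.Agent.MinSimple.MinParabolic (IsMinPar le_of_forall)
open Cfsg.Agent.Omega.NO3b.EndX (RedP)

universe u v

/-- **The input** (over `LB H M T A`). -/
structure AltInM (H : Type u) [Group H] (M : Type v) [Group M] [MulDistribMulAction H M] (T A J Q : Subgroup H)
    (X Rm Y : Subgroup M) : Prop where
  TX : ∀ t ∈ T, ∀ w ∈ X, t • w ∈ X
  sup : fxr H X ⊔ T = ⊤
  alt : ∀ t ∈ T, (∀ w ∈ X, t • w = w) → ∀ w ∈ Rm, t • w = w
  AX : ∀ a ∈ A, ∀ w ∈ X, a • w = w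
  NQ : normalizer (T : Set H) ≤ Q
  QR : ∀ q ∈ Q, ∀ w ∈ Rm, q • w ∈ Rm
  QJ : Q ≤ normalizer (J : Set H)
  JT : J ≤ T
  /-- a `T`-minimal `P` centralises `C_M(T)`, or `C_{Rm}(T)`, or is in `Q` -/
  par : ∀ P : Subgroup H, IsMinPar T P → (∀ m : M, (∀ t ∈ T, t • m = m) → ∀ p ∈ P, p • m = m) ∨
    (∀ m ∈ Rm, (∀ t ∈ T, t • m = m) → ∀ p ∈ P, p • m = m) ∨ (A ≤ o2 P ∧ P ≤ Q)
  bad : ∀ d ∈ Q, Odd (orderOf d) → (∀ j ∈ J, ∀ w ∈ Y, (j * d * j⁻¹ * d⁻¹) • ((d • w) * w⁻¹) = (d • w) * w⁻¹) →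
    ∀ w ∈ Rm, d • w = w
  mv : ∃ z ∈ Rm, (∀ t ∈ T, t • z = z) ∧ ¬ ∀ g : H, g • z = z

section

variable {H : Type u} [Group H] [Finite H] {M : Type v} [Group M] [Finite M] [MulDistribMulAction H M]
  {T A J Q : Subgroup H} {X Rm Y : Subgroup M}

/-- **`O(H') = 1`** -/
theorem odd_of (h : LB H M T A) (hM : MLK.{u, v}) (i : AltInM H M T A J Q X Rm Y)
    {H' : Type u} [Group H'] [Finite H'] {N : Type v} [Group N] [Finite N] [MulDistribMulAction H' N]
    {π : H →* H'} {f : ↥(cmm M A) →* N} {B : Subgroup H'} (o : Out H M T A H' N π f B)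
    (nmax : ¬ ∃ L : Subgroup H', L ≠ ⊤ ∧ ∀ R : Subgroup H', T.map π ≤ R → R ≠ ⊤ → R ≤ L) :
    ∀ K : Subgroup H', K.Normal → Odd (Nat.card K) → K = ⊥ := by
  intro K hK hKo
  obtain ⟨z, hzR, tz, mz⟩ := i.mv
  obtain ⟨z1, hz1, hzs⟩ := h.shift tz
  have tz1 : ∀ t ∈ T, t • z1 = z1 := fun t ht => (hzs t).2 (tz t ht)
  have mz1 : ¬ ∀ g : H, g • z1 = z1 := fun hc => mz fun g => (hzs g).1 (hc g)
  have him : ∀ {m : M} (hm : m ∈ cmm M A) {g : H}, g • m = m → π g • f ⟨m, hm⟩ = f ⟨m, hm⟩ := by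
    intro m hm g hg
    rw [← o.eqv g ⟨m, hm⟩]
    exact congrArg f (Subtype.ext hg)
  have nz1 : f ⟨z1, hz1⟩ ≠ 1 := fun h1 => mz1 fun g => h.fix_of_cvKm tz1 ((o.ker _).1 h1) g
  -- the kernel of `π` centralises `U¹`
  have hkz' : ∀ k ∈ π.ker ⊔ T, k • z1 = z1 := by
    refine h.fix_of_mod tz1 le_sup_right (I := cv M (Km A : Set H))
      (fun w hw tw g _ => h.fix_of_cvKm tw hw g) fun k hk => ?_
    have h1 : π k • f ⟨z1, hz1⟩ = f ⟨z1, hz1⟩ := by
      obtain ⟨k1, hk1, s, hs', rfl⟩ := mem_sup_of_normal_left.1 hk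
      rw [map_mul, (MonoidHom.mem_ker).1 hk1, one_mul]
      exact him hz1 (tz1 s hs')
    rw [← o.eqv k ⟨z1, hz1⟩, ← mul_inv_eq_one, ← map_inv, ← map_mul, o.ker] at h1
    exact h1
  have hkU : ∀ k ∈ π.ker, ∀ w ∈ cmm M A, k • w = w := by
    intro k hk w hw
    have h1 : k ∈ fxr H (orb (⊤ : Subgroup H) z1) := by
      rw [mem_fxr_orb]
      intro s _
      have h2 := hkz' (s⁻¹ * k * s) (mem_sup_left (by
        have := (inferInstance : (π.ker).Normal).conj_mem k hk s⁻¹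
        rwa [inv_inv] at this))
      rwa [mul_smul, mul_smul, inv_smul_eq_iff] at h2
    exact h1 w (h.cmm_le hM tz1 mz1 hw)
  -- `K ≤ π(Q)`
  have hKX : K ≤ Q.map π := by
    have hle : K ⊔ T.map π ≤ Q.map π := by
      refine le_of_forall le_sup_right ?_ ?_
      · rintro ν ⟨-, hν⟩
        obtain ⟨_, ⟨t, ht, rfl⟩, n, hn, rfl⟩ := KL.GenTool.exists_normalizer_map π o.πs h.two h.syl hν
        exact mul_mem ⟨t, i.NQ (le_normalizer ht), rfl⟩ ⟨n, i.NQ hn, rfl⟩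
      · intro P' hP' hPK
        obtain ⟨P, hP, rfl⟩ := KL.GenTool.exists_minPar_map π o.πs hP'
        obtain ⟨hn1, hn2⟩ := inf_normal o.lb nmax hK hKo hP'.le hPK
        have hno : (∀ p ∈ P, p • z = z) → False := by
          intro hPz
          have h6 := bot_of_fix o.faith o.irr hn1 nz1 fun n hn => by
            obtain ⟨q, hq, rfl⟩ := hn.1
            exact him hz1 ((hzs q).2 (hPz q hq))
          rw [h6, bot_sup_eq] at hn2
          exact hP'.ne hn2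
        rcases i.par P hP with h1 | h1 | h1
        · exact (hno (h1 z tz)).elim
        · exact (hno (h1 z hzR tz)).elim
        · exact map_mono h1.2
    exact le_sup_left.trans hle
  refine bot_of_fix o.faith o.irr hK nz1 fun κ hκ => ?_
  obtain ⟨g, hg, rfl⟩ := hKX hκ
  -- the odd part of `g`
  obtain ⟨a, m, hm, ha⟩ := Nat.exists_eq_pow_mul_and_not_dvd (orderOf_pos g).ne' 2 (by norm_num)
  have hm' : Odd m := Nat.not_even_iff_odd.1 fun h => hm h.two_dvd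
  have hgo : orderOf (g ^ 2 ^ a) = m := by
    rw [orderOf_pow_of_dvd (by positivity) (ha ▸ Dvd.intro _ rfl), ha, Nat.mul_div_cancel_left _ (by positivity)]
  have hgo' : Odd (orderOf (g ^ 2 ^ a)) := hgo ▸ hm'
  have hgK : π (g ^ 2 ^ a) ∈ K := by
    rw [map_pow]
    exact K.pow_mem hκ _
  have hgQ : g ^ 2 ^ a ∈ Q := Q.pow_mem hg _
  have hgA : g ^ 2 ^ a ∈ Km A := mem_of_odd h.two h.gen hgo'
  have hfix : ∀ w ∈ Rm, g ^ 2 ^ a • w = w := by
    refine i.bad _ hgQ hgo' fun j hj w hw => ?_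
    refine hkU _ ?_ _ (mem_cmm hgA w)
    rw [MonoidHom.mem_ker]
    refine eq_one_of_odd hKo (Q := J.map π) ((h.two.to_le i.JT).map π) ?_ ?_
    · rw [map_mul, map_mul, map_mul, map_inv, map_inv]
      exact K.mul_mem (hK.conj_mem _ hgK _) (K.inv_mem hgK)
    · refine ⟨j * (g ^ 2 ^ a) * j⁻¹ * (g ^ 2 ^ a)⁻¹, ?_, rfl⟩
      have h1 := (mem_normalizer_iff.1 (i.QJ hgQ) j⁻¹).1 (J.inv_mem hj)
      have e : j * (g ^ 2 ^ a) * j⁻¹ * (g ^ 2 ^ a)⁻¹ = j * ((g ^ 2 ^ a) * j⁻¹ * (g ^ 2 ^ a)⁻¹) := by group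
      rw [SetLike.mem_coe, e]
      exact J.mul_mem hj h1
  have h1 : π g ^ 2 ^ a • f ⟨z1, hz1⟩ = f ⟨z1, hz1⟩ := by
    rw [← map_pow]
    exact him hz1 ((hzs _).2 (hfix z hzR))
  have h2 : (2 ^ a).Coprime (orderOf (π g)) := by
    have h3 : orderOf (π g) ∣ Nat.card K := by
      have := orderOf_dvd_natCard (⟨π g, hκ⟩ : K)
      rwa [orderOf_mk] at this
    exact Nat.Coprime.pow_left a (Nat.coprime_two_left.mpr (hKo.of_dvd_nat h3))
  obtain ⟨j, hj⟩ := exists_pow_eq_self_of_coprime h2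
  have h3 : (π g ^ 2 ^ a) ^ j ∈ MulAction.stabilizer H' (f ⟨z1, hz1⟩) := pow_mem h1 j
  rw [hj] at h3
  exact h3

/-- **The case `H = C_H(X) T` is impossible.** -/
theorem AltInM.false_of (h : LB H M T A) (hM : MLK.{u, v}) (hE : ML.Ex.Two.Ext.{u, v})
    (i : AltInM H M T A J Q X Rm Y) : False := by
  obtain ⟨z, hzR, tz, mz⟩ := i.mv
  -- `H` is not `T`-minimal
  have nm : ¬ IsMinPar T (⊤ : Subgroup H) := by
    intro hP
    rcases i.par ⊤ hP with h1 | h1 | h1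
    · exact mz fun g => h1 z tz g (mem_top g)
    · exact mz fun g => h1 z hzR tz g (mem_top g)
    · exact h.nb h1.1
  -- no `P` moves one and fixes `z`
  have hex : ∀ P : Subgroup H, T ≤ P → ∀ m : M, (∀ t ∈ T, t • m = m) → (∃ p ∈ P, p • m ≠ m) →
      (∀ p ∈ P, p • z = z) → False := by
    intro P hTP m tm hmv hPz
    obtain ⟨H', i1, i2, N, i3, i4, i5, π, f, A', x', y', o, s⟩ := exists_sysV h hM tm tz mz ⟨P, hTP, hmv, hPz⟩ nm
    exact hE H' N (T.map π) A' x' y' (s.sysT (odd_of h hM i o s.nmax))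
  -- `X` is `H`-invariant
  have hXi : ∀ g : H, ∀ w ∈ X, g • w ∈ X := by
    have h1 : (⊤ : Subgroup H) ≤ { carrier := {g : H | ∀ w : M, g • w ∈ X ↔ w ∈ X}
                                   one_mem' := fun w => by rw [one_smul]
                                   mul_mem' := fun {a b} ha hb w => by rw [mul_smul, ha, hb]
                                   inv_mem' := fun {a} ha w => by rw [← ha, smul_inv_smul] } := by
      rw [← i.sup]
      refine sup_le (fun g hg w => ?_) (fun t ht w => ?_)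
      · refine ⟨fun h2 => ?_, fun h2 => by rw [hg w h2]; exact h2⟩
        have h3 := (fxr H X).inv_mem hg _ h2
        rw [inv_smul_smul] at h3
        rw [h3]
        exact h2
      · refine ⟨fun h2 => ?_, i.TX t ht w⟩
        have h3 := i.TX t⁻¹ (T.inv_mem ht) _ h2
        rwa [inv_smul_smul] at h3
    exact fun g w hw => (h1 (mem_top g) w).2 hw
  have hn : (fxr H X).Normal := fxr_normal hXi
  -- the hypothesis of LEMMA T1
  have hpar : ∀ P : Subgroup H, IsMinPar T P → (∃ z : M, (∀ t ∈ T, t • z = z) ∧ ∃ p ∈ P, p • z ≠ z) →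
      P ≤ normalizer ((T ⊓ fxr H X : Subgroup H) : Set H) := by
    rintro P hP ⟨m, tm, hmv⟩
    have hPz : ¬ ∀ p ∈ P, p • z = z := fun h1 => hex P hP.le m tm hmv h1
    have hPQ : A ≤ o2 P ∧ P ≤ Q := by
      rcases i.par P hP with h1 | h1 | h1
      · exact (hPz (h1 z tz)).elim
      · exact (hPz (h1 z hzR tz)).elim
      · exact h1
    have hsylP : ¬ 2 ∣ T.relIndex P := fun h1 => h.syl (h1.trans (relIndex_dvd_index_of_le hP.le))
    -- `C_P(Rm)`
    have hcn : P ≤ normalizer ((P ⊓ fxr H Rm : Subgroup H) : Set H) := by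
      have key : ∀ p ∈ P, ∀ g ∈ P ⊓ fxr H Rm, p * g * p⁻¹ ∈ P ⊓ fxr H Rm := fun p hp g hg =>
        ⟨P.mul_mem (P.mul_mem hp hg.1) (P.inv_mem hp),
          conj_mem_fxr (R := P) (fun g hg m hm => i.QR g (hPQ.2 hg) m hm) hp hg.2⟩
      intro p hp
      rw [mem_normalizer_iff]
      intro g
      refine ⟨fun hg => key p hp g hg, fun hg => ?_⟩
      have h5 := key p⁻¹ (P.inv_mem hp) _ hg
      have e : p⁻¹ * (p * g * p⁻¹) * p⁻¹⁻¹ = g := by group
      rwa [e] at h5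
    rcases hP.sup_eq_or_inf_le h.two hsylP (N := P ⊓ fxr H Rm) inf_le_left hcn with h1 | h1
    · refine (hPz fun p hp => ?_).elim
      rw [← h1] at hp
      have h2 : (P ⊓ fxr H Rm) ⊔ T ≤ MulAction.stabilizer H z :=
        sup_le (fun g hg => hg.2 z hzR) fun t ht => tz t ht
      exact h2 hp
    · have h2 : T ⊓ fxr H X ≤ o2 P := by
        refine le_trans (le_inf inf_le_left (le_inf (inf_le_left.trans hP.le) ?_)) h1
        exact fun t ht => i.alt t ht.1 ht.2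
      have h3 : o2 P ≤ T := o2_le_of_sylow h.two hsylP
      have h4 : T ⊓ fxr H X = o2 P ⊓ fxr H X :=
        le_antisymm (le_inf h2 inf_le_right) (inf_le_inf_right _ h3)
      rw [h4]
      intro p hp
      have h5 := mem_normalizer_iff.1 (le_normalizer_o2 P hp)
      rw [mem_normalizer_iff]
      intro g
      constructor
      · rintro ⟨h6, h7⟩
        exact ⟨(h5 g).1 h6, hn.conj_mem g h7 p⟩
      · rintro ⟨h6, h7⟩
        refine ⟨(h5 g).2 h6, ?_⟩
        have h8 := hn.conj_mem _ h7 p⁻¹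
        have e : p⁻¹ * (p * g * p⁻¹) * p⁻¹⁻¹ = g := by group
        rwa [e] at h8
  have hT := NOThreeL.RZ.TwoC.LemT.lemT (M := M) h.sq hn h.two h.syl i.sup hpar
  -- `A` centralises `⟨z^H⟩`
  apply h.nb
  refine le_trans (le_inf ?_ le_rfl) (h.fxr_inf_le tz mz)
  intro a ha
  rw [mem_fxr_orb]
  exact fun g _ => hT z tz g a (h.BT ha) (i.AX a ha)

end

/-- **The input.** -/
structure InpM {H : Type u} [Group H] {M : Type v} [Group M] [MulDistribMulAction H M] (T A J Q : Subgroup H)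
    (Z X Rm Y : Subgroup M) : Prop where
  sq : ∀ m : M, m * m = 1
  two : IsPGroup 2 T
  syl : ¬ 2 ∣ T.index
  tZ : ∀ z ∈ Z, ∀ t ∈ T, t • z = z
  NZ : ∀ g ∈ normalizer (T : Set H), ∀ z ∈ Z, g • z ∈ Z
  ZR : Z ≤ Rm
  NQ : normalizer (T : Set H) ≤ Q
  QX : ∀ q ∈ Q, ∀ w ∈ X, q • w ∈ X
  QR : ∀ q ∈ Q, ∀ w ∈ Rm, q • w ∈ Rm
  QJ : Q ≤ normalizer (J : Set H)
  JT : J ≤ T
  XR : X ⊓ Rm = ⊥
  alt : ∀ t ∈ T, (∀ w ∈ X, t • w = w) → ∀ w ∈ Rm, t • w = w
  /-- a `T`-minimal `P` centralises `C_M(T)`, or `C_{Rm}(T)`, or lies in `Q` and `A, J ≤ O₂(P)` -/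
  par : ∀ P : Subgroup H, IsMinPar T P → (∀ m : M, (∀ t ∈ T, t • m = m) → ∀ p ∈ P, p • m = m) ∨
    (∀ m ∈ Rm, (∀ t ∈ T, t • m = m) → ∀ p ∈ P, p • m = m) ∨ (A ≤ o2 P ∧ J ≤ o2 P ∧ P ≤ Q)
  bad : ∀ d ∈ Q, Odd (orderOf d) → (∀ j ∈ J, ∀ w ∈ Y, (j * d * j⁻¹ * d⁻¹) • ((d • w) * w⁻¹) = (d • w) * w⁻¹) →
    (∀ w ∈ X, d • w = w) ∧ ∀ w ∈ Rm, d • w = w
  el : ∀ a ∈ A, a * a = 1
  exact : (cv M (A : Set H)).index = Nat.card A
  atom : ∀ C : Subgroup H, C ≤ A → C ≠ ⊥ → C ≠ A → Nat.card C < (cv M (C : Set H)).index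
  nA : ¬ A ≤ o2 (⊤ : Subgroup H)
  AZ : A ≤ o2 (fxr H Z)
  AX : ∀ a ∈ A, ∀ w ∈ X, a • w = w
  KH : IsKGroup H

namespace InpM

variable {H : Type u} [Group H] [Finite H] {M : Type v} [Group M] [Finite M] [MulDistribMulAction H M]
  {T A J Q : Subgroup H} {Z X Rm Y : Subgroup M}

omit [Finite M] in
theorem AT (i : InpM T A J Q Z X Rm Y) : A ≤ T :=
  i.AZ.trans (o2_le_of_sylow i.two fun h2 => i.syl (h2.trans (relIndex_dvd_index_of_le fun t ht z hz => i.tZ z hz t ht)))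

/-- **The nonsplit case, side 1.** -/
theorem false_of (i : InpM T A J Q Z X Rm Y) (hM : MLK.{u, v}) (hR : RedP.{u, v}) (hE : ML.Ex.Two.Ext.{u, v}) :
    False := by
  obtain ⟨L, hTL, hAL, hlb, hNN⟩ := exists_min i.sq i.two i.syl i.AT i.el i.exact i.atom i.nA i.KH
  have hAT := i.AT
  have hAL' : A ≤ L := hAT.trans hTL
  -- a `T`-minimal subgroup of `L` which moves `Z`
  obtain ⟨P, hPm, hPZ⟩ : ∃ P : Subgroup L, IsMinPar (T.subgroupOf L) P ∧
      ¬ ∀ z ∈ Z, ∀ p ∈ P, p • z = z := by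
    by_contra hc
    push Not at hc
    apply hAL
    -- `C_L(Z)` is normal in `L`
    let F : Subgroup H := fxr H Z ⊓ L
    have hTF : T ≤ F := le_inf (fun t ht z hz => i.tZ z hz t ht) hTL
    have h1 : (⊤ : Subgroup L) ≤ (normalizer (F : Set H)).subgroupOf L := by
      refine le_of_forall (S := T.subgroupOf L) le_top (fun g hg => ?_) fun P hP _ p hp => ?_
      · rw [mem_subgroupOf]
        have hg1 := hNN g hg.2
        have hconj : ∀ k : H, k ∈ normalizer (T : Set H) → k ∈ L → ∀ w ∈ F, k * w * k⁻¹ ∈ F := by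
          intro k hk hkL w hw
          refine ⟨fun z hz => ?_, L.mul_mem (L.mul_mem hkL hw.2) (L.inv_mem hkL)⟩
          have h2 := hw.1 _ (i.NZ k⁻¹ (inv_mem hk) z hz)
          rw [mul_smul, mul_smul, h2, smul_inv_smul]
        rw [mem_normalizer_iff]
        intro w
        refine ⟨hconj g hg1 g.2 w, fun hw => ?_⟩
        have h2 := hconj (g : H)⁻¹ (inv_mem hg1) (L.inv_mem g.2) _ hw
        have e : (g : H)⁻¹ * (g * w * (g : H)⁻¹) * (g : H)⁻¹⁻¹ = w := by group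
        rwa [e] at h2
      · rw [mem_subgroupOf]
        exact le_normalizer (show (p : H) ∈ F from ⟨fun z hz => hc P hP z hz p hp, p.2⟩)
    have h2 : L ≤ normalizer (F : Set H) := fun g hg => h1 (mem_top (⟨g, hg⟩ : L))
    exact (le_inf i.AZ (hAT.trans hTF)).trans
      ((InpG.o2_le_o2_of_le inf_le_left).trans (o2_le_o2 inf_le_right h2))
  have hPQ : P ≤ Q.subgroupOf L := by
    rcases i.par _ (KL.GenTool.minPar_map_subtype hTL hPm) with h1 | h1 | ⟨-, -, h1⟩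
    · exact (hPZ fun z hz p hp => h1 z (i.tZ z hz) _ ⟨p, hp, rfl⟩).elim
    · exact (hPZ fun z hz p hp => h1 z (i.ZR hz) (i.tZ z hz) _ ⟨p, hp, rfl⟩).elim
    · exact fun p hp => h1 ⟨p, hp, rfl⟩
  push Not at hPZ
  obtain ⟨x, hxZ, p, hp, hpx⟩ := hPZ
  have htx : ∀ t ∈ T.subgroupOf L, t • x = x := fun t ht => i.tZ x hxZ _ ht
  have hQJ : Q.subgroupOf L ≤ normalizer ((J.subgroupOf L : Subgroup L) : Set L) := by
    intro q hq
    have h1 := i.QJ (show (q : H) ∈ Q from hq)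
    rw [mem_normalizer_iff] at h1 ⊢
    exact fun j => h1 j
  by_cases hsup : fxr L X ⊔ T.subgroupOf L = ⊤
  · -- (N2)
    refine AltInM.false_of (J := J.subgroupOf L) (Q := Q.subgroupOf L) (X := X) (Rm := Rm) (Y := Y) hlb hM hE ?_
    exact
      { TX := fun t ht w hw => i.QX _ (i.NQ (le_normalizer ht)) w hw
        sup := hsup
        alt := fun t ht hw => i.alt _ ht hw
        AX := fun a ha w hw => i.AX _ ha w hw
        NQ := fun g hg => i.NQ (hNN g hg)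
        QR := fun q hq w hw => i.QR _ hq w hw
        QJ := hQJ
        JT := fun j hj => i.JT hj
        par := by
          intro P' hP'
          rcases i.par _ (KL.GenTool.minPar_map_subtype hTL hP') with h1 | h1 | ⟨h1, -, h3⟩
          · exact Or.inl fun m hm q hq => h1 m (fun t ht => hm ⟨t, hTL ht⟩ ht) _ ⟨q, hq, rfl⟩
          · exact Or.inr (Or.inl fun m hmR hm q hq => h1 m hmR (fun t ht => hm ⟨t, hTL ht⟩ ht) _ ⟨q, hq, rfl⟩)
          · exact Or.inr (Or.inr ⟨fun a ha => KL.GenTool.o2_subgroupOf_le P' (h1 ha), fun q hq => h3 ⟨q, hq, rfl⟩⟩)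
        bad := by
          intro d hd hdo hcom w hw
          refine (i.bad (d : H) hd (by rwa [orderOf_coe]) (fun j hj w hw => ?_)).2 w hw
          exact hcom ⟨j, hTL (i.JT hj)⟩ hj w hw
        mv := ⟨x, i.ZR hxZ, htx, fun hc => hpx (hc p)⟩ }
  · -- (N1)
    have hY : ¬ ∀ g : L, Odd (orderOf g) → ∀ w ∈ X, g • w = w := by
      intro hc
      apply hsup
      have h1 : oddGen (⊤ : Subgroup L) ⊔ T.subgroupOf L = ⊤ := oddGen_sup le_top fun h2 => hlb.syl (by rwa [relIndex_top_right] at h2)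
      rw [eq_top_iff]
      calc (⊤ : Subgroup L) = oddGen (⊤ : Subgroup L) ⊔ T.subgroupOf L := h1.symm
        _ ≤ _ := by
          refine sup_le_sup_right ?_ _
          rw [oddGen_def, closure_le]
          rintro g ⟨-, hgo⟩ w hw
          exact hc g hgo w hw
    obtain ⟨H', i1, i2, N, i3, i4, i5, T', A', x', Y', h⟩ :=
      exists_sysN hlb hM htx (Y := X) (J := J.subgroupOf L) (Q := Q.subgroupOf L)
        (fun g hg => i.NQ (hNN g hg)) (fun q hq w hw => i.QX _ hq w hw) hQJ (fun j hj => i.JT hj) hY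
        (fun R hR => by
          rcases i.par _ (KL.GenTool.minPar_map_subtype hTL hR) with h1 | h1 | ⟨h1, h2, h3⟩
          · exact Or.inl fun q hq => h1 x (i.tZ x hxZ) _ ⟨q, hq, rfl⟩
          · exact Or.inl fun q hq => h1 x (i.ZR hxZ) (i.tZ x hxZ) _ ⟨q, hq, rfl⟩
          · exact Or.inr (Or.inr ⟨fun a ha => KL.GenTool.o2_subgroupOf_le R (h1 ha),
              fun a ha => KL.GenTool.o2_subgroupOf_le R (h2 ha), fun q hq => h3 ⟨q, hq, rfl⟩⟩))
        ⟨P, hPm.le, ⟨p, hp, hpx⟩, fun g hg hgo y hy hgy => by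
          have hgQ : (g : H) ∈ Q := hPQ hg
          have h1 : (g • x) * x⁻¹ ∈ Rm := Rm.mul_mem (i.QR _ hgQ x (i.ZR hxZ)) (Rm.inv_mem (i.ZR hxZ))
          have h2 : (g • x) * x⁻¹ = y * (g • y)⁻¹ := by
            have hcomm := ML.MinFrame.comm_of_sq i.sq
            rw [smul_mul'] at hgy
            have e1 : g • x = x * y * (g • y)⁻¹ := by rw [← hgy]; group
            rw [e1, hcomm x y]
            calc y * x * (g • y)⁻¹ * x⁻¹ = y * (x * (g • y)⁻¹) * x⁻¹ := by group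
              _ = y * ((g • y)⁻¹ * x) * x⁻¹ := by rw [hcomm x]
              _ = _ := by group
          have h3 : (g • x) * x⁻¹ ∈ X ⊓ Rm :=
            ⟨by rw [h2]; exact X.mul_mem hy (X.inv_mem (i.QX _ hgQ y hy)), h1⟩
          rw [i.XR, mem_bot] at h3
          exact mul_inv_eq_one.1 h3⟩
        (Or.inl (by
          intro d hd hdo hcom w hw
          refine (i.bad (d : H) hd (by rwa [orderOf_coe]) (fun j hj w _ => ?_)).1 w hw
          exact hcom ⟨j, hTL (i.JT hj)⟩ hj w))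
    obtain ⟨x'', y'', hm⟩ := h.exists_mv hR
    exact hE H' N T' A' x'' y'' (h.toSysB.sysT hm)

end InpM

end Cfsg.Agent.Omega.KL.StarR.AltM
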