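import Cfsg.Agent.Omega.KL.StarR.Alt
import Cfsg.Agent.Omega.KL.StarR.CoreN
import Cfsg.Agent.Omega.KL.StarR.Main

/-!
# The nonsplit case of [R-z], side 1 (helper878, bb #24731, #25243 (6), #25374 [N])

`T` a Sylow 2-subgroup of `H`, `Z ≤ Rm` is fixed by `T`, `X ∩ Rm = 1`, `X, Rm ≤ Y`, `C_T(X)` centralises `Rm`, every
`T`-minimal `P` centralises `C_M(T)`, or `C_{Rm}(T)`, or `P ≤ Q` and `A, J ≤ O₂(P)`; `Q` normalises `X`, `Rm`, `J`; `Bad`
for `Y`; `A` is an exact atom, `A ≰ O₂(H)`, `A ≤ O₂(C_H(Z))`, `A ≤ C_H(X)`: `InpN T A J Q Z X Rm Y`.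

* **`InpN.false_of`** : this is impossible (`MLK`, `RedP`, `Ext`): for the minimal overgroup `L` of `T` with `A ≰ O₂(L)`
  either `L = C_L(X) T` (`AltIn.false_of`) or KL* with the object `X` (`exists_sysN`).
-/

set_option autoImplicit false

namespace Cfsg.Agent.Omega.KL.StarR.Alt

open Subgroup Cfsg Cfsg.Agent.ZN Cfsg.Agent.ClassTwoFusion.Quad
open Cfsg.Agent.Omega.ML.MinFrame hiding comm_of_sq
open Cfsg.Agent.Omega.ML.Final Cfsg.Agent.Omega.NO3S.EMany.Low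
open Cfsg.Agent.Omega.KL.Star.Core
open Cfsg.Agent.Omega.KL.StarQ (exists_min)
open Cfsg.Agent.Omega.NO3b.EndX (RedP)
open Cfsg.Agent.MinSimple.VModule (o2_isPGroup o2_le le_o2 le_normalizer_o2 o2_le_of_sylow oddGen oddGen_le oddGen_def)
open Cfsg.Agent.MinSimple.MinParabolic (IsMinPar le_of_forall)

universe u v

/-- **The input.** -/
structure InpN {H : Type u} [Group H] {M : Type v} [Group M] [MulDistribMulAction H M] (T A J Q : Subgroup H)
    (Z X Rm Y : Subgroup M) : Prop where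
  sq : ∀ m : M, m * m = 1
  two : IsPGroup 2 T
  syl : ¬ 2 ∣ T.index
  tZ : ∀ z ∈ Z, ∀ t ∈ T, t • z = z
  NZ : ∀ g ∈ normalizer (T : Set H), ∀ z ∈ Z, g • z ∈ Z
  ZR : Z ≤ Rm
  NQ : normalizer (T : Set H) ≤ Q
  QX : ∀ q ∈ Q, ∀ w ∈ X, q • w ∈ X
  QR : ∀ q ∈ Q, ∀ w ∈ Rm, q • w ∈ Rm
  QJ : Q ≤ normalizer (J : Set H)
  JT : J ≤ T
  XR : X ⊓ Rm = ⊥
  XY : X ≤ Y
  RY : Rm ≤ Y
  alt : ∀ t ∈ T, (∀ w ∈ X, t • w = w) → ∀ w ∈ Rm, t • w = w
  /-- a `T`-minimal `P` centralises `C_M(T)`, or `C_{Rm}(T)`, or lies in `Q` and `A, J ≤ O₂(P)` -/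
  par : ∀ P : Subgroup H, IsMinPar T P → (∀ m : M, (∀ t ∈ T, t • m = m) → ∀ p ∈ P, p • m = m) ∨
    (∀ m ∈ Rm, (∀ t ∈ T, t • m = m) → ∀ p ∈ P, p • m = m) ∨ (A ≤ o2 P ∧ J ≤ o2 P ∧ P ≤ Q)
  bad : ∀ d ∈ Q, Odd (orderOf d) → (∀ j ∈ J, ∀ w ∈ Y, (j * d * j⁻¹ * d⁻¹) • ((d • w) * w⁻¹) = (d • w) * w⁻¹) →
    ∀ w ∈ Y, d • w = w
  el : ∀ a ∈ A, a * a = 1
  exact : (cv M (A : Set H)).index = Nat.card A
  atom : ∀ C : Subgroup H, C ≤ A → C ≠ ⊥ → C ≠ A → Nat.card C < (cv M (C : Set H)).index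
  nA : ¬ A ≤ o2 (⊤ : Subgroup H)
  AZ : A ≤ o2 (fxr H Z)
  AX : ∀ a ∈ A, ∀ w ∈ X, a • w = w
  KH : IsKGroup H

namespace InpN

variable {H : Type u} [Group H] [Finite H] {M : Type v} [Group M] [Finite M] [MulDistribMulAction H M]
  {T A J Q : Subgroup H} {Z X Rm Y : Subgroup M}

omit [Finite M] in
theorem AT (i : InpN T A J Q Z X Rm Y) : A ≤ T :=
  i.AZ.trans (o2_le_of_sylow i.two fun h2 => i.syl (h2.trans (relIndex_dvd_index_of_le fun t ht z hz => i.tZ z hz t ht)))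

/-- **The nonsplit case, side 1.** -/
theorem false_of (i : InpN T A J Q Z X Rm Y) (hM : MLK.{u, v}) (hR : RedP.{u, v}) (hE : ML.Ex.Two.Ext.{u, v}) :
    False := by
  obtain ⟨L, hTL, hAL, hlb, hNN⟩ := exists_min i.sq i.two i.syl i.AT i.el i.exact i.atom i.nA i.KH
  have hAT := i.AT
  have hAL' : A ≤ L := hAT.trans hTL
  -- a `T`-minimal subgroup of `L` which moves `Z`
  obtain ⟨P, hPm, hPZ⟩ : ∃ P : Subgroup L, IsMinPar (T.subgroupOf L) P ∧
      ¬ ∀ z ∈ Z, ∀ p ∈ P, p • z = z := by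
    by_contra hc
    push Not at hc
    apply hAL
    -- `C_L(Z)` is normal in `L`
    let F : Subgroup H := fxr H Z ⊓ L
    have hTF : T ≤ F := le_inf (fun t ht z hz => i.tZ z hz t ht) hTL
    have h1 : (⊤ : Subgroup L) ≤ (normalizer (F : Set H)).subgroupOf L := by
      refine le_of_forall (S := T.subgroupOf L) le_top (fun g hg => ?_) fun P hP _ p hp => ?_
      · rw [mem_subgroupOf]
        have hg1 := hNN g hg.2
        have hconj : ∀ k : H, k ∈ normalizer (T : Set H) → k ∈ L → ∀ w ∈ F, k * w * k⁻¹ ∈ F := by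
          intro k hk hkL w hw
          refine ⟨fun z hz => ?_, L.mul_mem (L.mul_mem hkL hw.2) (L.inv_mem hkL)⟩
          have h2 := hw.1 _ (i.NZ k⁻¹ (inv_mem hk) z hz)
          rw [mul_smul, mul_smul, h2, smul_inv_smul]
        rw [mem_normalizer_iff]
        intro w
        refine ⟨hconj g hg1 g.2 w, fun hw => ?_⟩
        have h2 := hconj (g : H)⁻¹ (inv_mem hg1) (L.inv_mem g.2) _ hw
        have e : (g : H)⁻¹ * (g * w * (g : H)⁻¹) * (g : H)⁻¹⁻¹ = w := by group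
        rwa [e] at h2
      · rw [mem_subgroupOf]
        exact le_normalizer (show (p : H) ∈ F from ⟨fun z hz => hc P hP z hz p hp, p.2⟩)
    have h2 : L ≤ normalizer (F : Set H) := fun g hg => h1 (mem_top (⟨g, hg⟩ : L))
    exact (le_inf i.AZ (hAT.trans hTF)).trans
      ((InpG.o2_le_o2_of_le inf_le_left).trans (o2_le_o2 inf_le_right h2))
  have hPQ : P ≤ Q.subgroupOf L := by
    rcases i.par _ (KL.GenTool.minPar_map_subtype hTL hPm) with h1 | h1 | ⟨-, -, h1⟩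
    · exact (hPZ fun z hz p hp => h1 z (i.tZ z hz) _ ⟨p, hp, rfl⟩).elim
    · exact (hPZ fun z hz p hp => h1 z (i.ZR hz) (i.tZ z hz) _ ⟨p, hp, rfl⟩).elim
    · exact fun p hp => h1 ⟨p, hp, rfl⟩
  push Not at hPZ
  obtain ⟨x, hxZ, p, hp, hpx⟩ := hPZ
  have htx : ∀ t ∈ T.subgroupOf L, t • x = x := fun t ht => i.tZ x hxZ _ ht
  have hQJ : Q.subgroupOf L ≤ normalizer ((J.subgroupOf L : Subgroup L) : Set L) := by
    intro q hq
    have h1 := i.QJ (show (q : H) ∈ Q from hq)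
    rw [mem_normalizer_iff] at h1 ⊢
    exact fun j => h1 j
  by_cases hsup : fxr L X ⊔ T.subgroupOf L = ⊤
  · -- (N2)
    refine AltIn.false_of (J := J.subgroupOf L) (Q := Q.subgroupOf L) (X := X) (Rm := Rm) (Y := Y) hlb hM hE ?_
    exact
      { TX := fun t ht w hw => i.QX _ (i.NQ (le_normalizer ht)) w hw
        sup := hsup
        alt := fun t ht hw => i.alt _ ht hw
        AX := fun a ha w hw => i.AX _ ha w hw
        RY := i.RY
        NQ := fun g hg => i.NQ (hNN g hg)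
        QR := fun q hq w hw => i.QR _ hq w hw
        QJ := hQJ
        JT := fun j hj => i.JT hj
        par := by
          intro P' hP'
          rcases i.par _ (KL.GenTool.minPar_map_subtype hTL hP') with h1 | h1 | ⟨h1, -, h3⟩
          · exact Or.inl fun m hm q hq => h1 m (fun t ht => hm ⟨t, hTL ht⟩ ht) _ ⟨q, hq, rfl⟩
          · exact Or.inr (Or.inl fun m hmR hm q hq => h1 m hmR (fun t ht => hm ⟨t, hTL ht⟩ ht) _ ⟨q, hq, rfl⟩)
          · exact Or.inr (Or.inr ⟨fun a ha => KL.GenTool.o2_subgroupOf_le P' (h1 ha), fun q hq => h3 ⟨q, hq, rfl⟩⟩)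
        bad := by
          intro d hd hdo hcom w hw
          refine i.bad (d : H) hd (by rwa [orderOf_coe]) (fun j hj w hw => ?_) w hw
          exact hcom ⟨j, hTL (i.JT hj)⟩ hj w hw
        mv := ⟨x, i.ZR hxZ, htx, fun hc => hpx (hc p)⟩ }
  · -- (N1)
    have hY : ¬ ∀ g : L, Odd (orderOf g) → ∀ w ∈ X, g • w = w := by
      intro hc
      apply hsup
      have h1 : oddGen (⊤ : Subgroup L) ⊔ T.subgroupOf L = ⊤ := oddGen_sup le_top fun h2 => hlb.syl (by rwa [relIndex_top_right] at h2)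
      rw [eq_top_iff]
      calc (⊤ : Subgroup L) = oddGen (⊤ : Subgroup L) ⊔ T.subgroupOf L := h1.symm
        _ ≤ _ := by
          refine sup_le_sup_right ?_ _
          rw [oddGen_def, closure_le]
          rintro g ⟨-, hgo⟩ w hw
          exact hc g hgo w hw
    obtain ⟨H', i1, i2, N, i3, i4, i5, T', A', x', Y', h⟩ :=
      exists_sysN hlb hM htx (Y := X) (J := J.subgroupOf L) (Q := Q.subgroupOf L)
        (fun g hg => i.NQ (hNN g hg)) (fun q hq w hw => i.QX _ hq w hw) hQJ (fun j hj => i.JT hj) hY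
        (fun R hR => by
          rcases i.par _ (KL.GenTool.minPar_map_subtype hTL hR) with h1 | h1 | ⟨h1, h2, h3⟩
          · exact Or.inl fun q hq => h1 x (i.tZ x hxZ) _ ⟨q, hq, rfl⟩
          · exact Or.inl fun q hq => h1 x (i.ZR hxZ) (i.tZ x hxZ) _ ⟨q, hq, rfl⟩
          · exact Or.inr (Or.inr ⟨fun a ha => KL.GenTool.o2_subgroupOf_le R (h1 ha),
              fun a ha => KL.GenTool.o2_subgroupOf_le R (h2 ha), fun q hq => h3 ⟨q, hq, rfl⟩⟩))
        ⟨P, hPm.le, ⟨p, hp, hpx⟩, fun g hg hgo y hy hgy => by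
          have hgQ : (g : H) ∈ Q := hPQ hg
          have h1 : (g • x) * x⁻¹ ∈ Rm := Rm.mul_mem (i.QR _ hgQ x (i.ZR hxZ)) (Rm.inv_mem (i.ZR hxZ))
          have h2 : (g • x) * x⁻¹ = y * (g • y)⁻¹ := by
            have hcomm := ML.MinFrame.comm_of_sq i.sq
            rw [smul_mul'] at hgy
            have e1 : g • x = x * y * (g • y)⁻¹ := by rw [← hgy]; group
            rw [e1, hcomm x y]
            calc y * x * (g • y)⁻¹ * x⁻¹ = y * (x * (g • y)⁻¹) * x⁻¹ := by group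
              _ = y * ((g • y)⁻¹ * x) * x⁻¹ := by rw [hcomm x]
              _ = _ := by group
          have h3 : (g • x) * x⁻¹ ∈ X ⊓ Rm :=
            ⟨by rw [h2]; exact X.mul_mem hy (X.inv_mem (i.QX _ hgQ y hy)), h1⟩
          rw [i.XR, mem_bot] at h3
          exact mul_inv_eq_one.1 h3⟩
        (Or.inl (by
          intro d hd hdo hcom w hw
          refine i.bad (d : H) hd (by rwa [orderOf_coe]) (fun j hj w _ => ?_) w (i.XY hw)
          exact hcom ⟨j, hTL (i.JT hj)⟩ hj w))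
    obtain ⟨x'', y'', hm⟩ := h.exists_mv hR
    exact hE H' N T' A' x'' y'' (h.toSysB.sysT hm)

end InpN

end Cfsg.Agent.Omega.KL.StarR.Alt
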