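import Cfsg.Agent.Omega.KL.StarR.LemE

/-!
# [R-z], case (II), side 1: the field `bad` over a family of blocks (helper885, bb #24934; helper345 #25079)

`H` acts on the elementary abelian 2-group `M`, `Y = ⨆ W b` is the product of the blocks `W b`, `J ≤ H` is the image
of `C_S(R)`, `JE ≤ J` the image of `S ∩ E`, `NY` a subgroup of `H` which permutes the blocks, `E` a group of vectors
fixed by everything (`E ∋ e = ∏ e_b`).

* `UU JE W b` : the elements of `JE` which centralise all blocks but `W b`;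
* `BlkR J JE NY Y E W l` : the hypotheses;
* **`BlkR.stab`** : `d ∈ NY ∩ N(J)` of odd order with `[[Y, d], [J, d]] = 1` normalises every block;
* **`BlkR.bad`** : if moreover `d` centralises `E` then `d` centralises `Y`.
-/

set_option autoImplicit false

namespace Cfsg.Agent.Omega.KL.StarR.Blk

open Subgroup
open Cfsg.Agent.Omega.KL.StarR.LemE (Root fix_of_move)

variable {H : Type*} [Group H] {M : Type*} [Group M] [MulDistribMulAction H M] {ι : Type*}

/-- the elements of `JE` which centralise all blocks but `W b` -/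
def UU (JE : Subgroup H) (W : ι → Subgroup M) (b : ι) : Subgroup H where
  carrier := {a | a ∈ JE ∧ ∀ c, c ≠ b → ∀ w ∈ W c, a • w = w}
  mul_mem' := by
    rintro x y ⟨hx, hx'⟩ ⟨hy, hy'⟩
    refine ⟨mul_mem hx hy, fun c hc w hw => ?_⟩
    rw [mul_smul, hy' c hc w hw, hx' c hc w hw]
  one_mem' := ⟨one_mem _, fun c _ w _ => one_smul _ w⟩
  inv_mem' := by
    rintro x ⟨hx, hx'⟩
    refine ⟨inv_mem hx, fun c hc w hw => ?_⟩
    rw [inv_smul_eq_iff]
    exact (hx' c hc w hw).symm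

theorem mem_UU {JE : Subgroup H} {W : ι → Subgroup M} {b : ι} {a : H} :
    a ∈ UU JE W b ↔ a ∈ JE ∧ ∀ c, c ≠ b → ∀ w ∈ W c, a • w = w := Iff.rfl

/-- the blocks of `Y` -/
structure BlkR (J JE NY : Subgroup H) (Y E : Subgroup M) (W l : ι → Subgroup M) : Prop where
  JEJ : JE ≤ J
  nJE : ∀ d ∈ NY, d ∈ normalizer (J : Set H) → d ∈ normalizer (JE : Set H)
  leY : ∀ b, W b ≤ Y
  sup : Y ≤ ⨆ b, W b
  indep : ∀ b, Disjoint (W b) (⨆ c, ⨆ (_ : c ≠ b), W c)
  perm : ∀ d ∈ NY, ∀ b, ∃ c, ∀ w ∈ W b, d • w ∈ W c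
  aW : ∀ b, ∀ a ∈ UU JE W b, ∀ w ∈ W b, a • w ∈ W b
  mv : ∀ b, ∃ a ∈ UU JE W b, ∃ w ∈ W b, a • w ≠ w
  kind : ∀ b, (Root (W b) (l b) (UU JE W b) ∧
      ∃ z ∈ E, ∃ e ∈ l b, e ≠ 1 ∧ ∃ f ∈ (⨆ c, ⨆ (_ : c ≠ b), W c : Subgroup M), z = e * f) ∨
    (∀ d : H, Odd (orderOf d) → (∀ w ∈ W b, d • w ∈ W b) → (∀ u ∈ UU JE W b, d * u * d⁻¹ ∈ UU JE W b) →
      ∀ w ∈ W b, d • w = w)

variable {J JE NY : Subgroup H} {Y E : Subgroup M} {W l : ι → Subgroup M}

/-- a subgroup which is mapped into itself by `d` (of finite order) is mapped into itself by `d⁻¹` -/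
theorem inv_stab {d : H} (hd : Odd (orderOf d)) {W : Subgroup M} (h : ∀ w ∈ W, d • w ∈ W) : ∀ w ∈ W, d⁻¹ • w ∈ W := by
  intro w hw
  have hk : ∀ n : ℕ, d ^ n • w ∈ W := by
    intro n
    induction n with
    | zero => simpa using hw
    | succ n ih => rw [pow_succ', mul_smul]; exact h _ ih
  have h1 : d⁻¹ = d ^ (orderOf d - 1) := by
    have hpos : 0 < orderOf d := hd.pos
    rw [inv_eq_iff_mul_eq_one, ← pow_succ', Nat.sub_add_cancel hpos, pow_orderOf_eq_one]
  rw [h1]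
  exact hk _

theorem BlkR.dis (h : BlkR J JE NY Y E W l) {b c : ι} (hc : c ≠ b) {x : M} (h1 : x ∈ W b) (h2 : x ∈ W c) : x = 1 := by
  have h3 : x ∈ (⨆ c, ⨆ (_ : c ≠ b), W c : Subgroup M) := by
    have : W c ≤ (⨆ c, ⨆ (_ : c ≠ b), W c : Subgroup M) :=
      le_iSup₂_of_le (f := fun (c : ι) (_ : c ≠ b) => W c) c hc le_rfl
    exact this h2
  exact Subgroup.mem_bot.1 ((h.indep b).le_bot ⟨h1, h3⟩)

/-- **`d` normalises every block** -/
theorem BlkR.stab (h : BlkR J JE NY Y E W l) (hab : ∀ a b : M, a * b = b * a) {d : H} (hd : Odd (orderOf d))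
    (hN : d ∈ NY)
    (hcom : ∀ j ∈ J, ∀ w ∈ Y, (j * d * j⁻¹ * d⁻¹) • ((d • w) * w⁻¹) = (d • w) * w⁻¹) (b : ι) :
    ∀ w ∈ W b, d • w ∈ W b := by
  obtain ⟨c, hc⟩ := h.perm d hN b
  by_cases hcb : c = b
  · rw [hcb] at hc
    exact hc
  exfalso
  obtain ⟨a, ha, w, hw, hm⟩ := h.mv b
  refine hm (fix_of_move hab (W := W b) (d := d) hw (h.aW b a ha w hw) ?_ ?_ ?_ ?_)
  · exact ha.2 c hcb _ (hc w hw)
  · obtain ⟨c', hc'⟩ := h.perm d⁻¹ (inv_mem hN) b
    by_cases hcb' : c' = b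
    · exfalso
      rw [hcb'] at hc'
      have h1 : ∀ w ∈ W b, d • w ∈ W b := by
        have h2 := inv_stab (d := d⁻¹) (by rwa [orderOf_inv]) hc'
        simpa using h2
      have h2 : d • w = 1 := h.dis hcb (h1 w hw) (hc w hw)
      have h3 : w = 1 := by
        have := congrArg (fun z => d⁻¹ • z) h2
        simpa using this
      exact hm (by rw [h3, smul_one])
    · rw [mul_smul, mul_smul, ha.2 c' hcb' _ (hc' w hw), smul_inv_smul]
  · have h1 := hcom a⁻¹ (inv_mem (h.JEJ ha.1)) w (h.leY b hw)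
    rw [inv_inv, hab (d • w)] at h1
    have e1 : a⁻¹ * (d * a * d⁻¹) = a⁻¹ * d * a * d⁻¹ := by group
    rw [e1]
    exact h1
  · intro x hx y hy hxy
    exact h.dis hcb hx (hxy ▸ hc y hy)

/-- **the field `bad`** -/
theorem BlkR.bad (h : BlkR J JE NY Y E W l) (hab : ∀ a b : M, a * b = b * a) (hsq : ∀ a : M, a ^ 2 = 1) :
    ∀ d ∈ NY, Odd (orderOf d) → d ∈ normalizer (J : Set H) →
      (∀ j ∈ J, ∀ w ∈ Y, (j * d * j⁻¹ * d⁻¹) • ((d • w) * w⁻¹) = (d • w) * w⁻¹) → (∀ z ∈ E, d • z = z) →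
      ∀ w ∈ Y, d • w = w := by
  intro d hN hd hJ hcom hE
  have st := h.stab hab hd hN hcom
  have sti := fun b => inv_stab hd (st b)
  have hJE := h.nJE d hN hJ
  -- `d` normalises `UU b`
  have hU : ∀ b, ∀ u ∈ UU JE W b, d * u * d⁻¹ ∈ UU JE W b := by
    intro b u hu
    refine ⟨(mem_normalizer_iff.1 hJE u).1 hu.1, fun c hc w hw => ?_⟩
    rw [mul_smul, mul_smul, hu.2 c hc _ (sti c w hw), smul_inv_smul]
  have hb : ∀ b, ∀ w ∈ W b, d • w = w := by
    intro b
    rcases h.kind b with ⟨hr, z, hz, e, he, he1, f, hf, rfl⟩ | hk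
    · have heW : e ∈ W b := hr.le he
      have hfs : d • f ∈ (⨆ c, ⨆ (_ : c ≠ b), W c : Subgroup M) := by
        have h1 : (⨆ c, ⨆ (_ : c ≠ b), W c : Subgroup M) ≤
            (⨆ c, ⨆ (_ : c ≠ b), W c : Subgroup M).comap (MulDistribMulAction.toMonoidHom M d) := by
          refine iSup₂_le fun c hc w hw => ?_
          have : W c ≤ (⨆ c, ⨆ (_ : c ≠ b), W c : Subgroup M) :=
            le_iSup₂_of_le (f := fun (c : ι) (_ : c ≠ b) => W c) c hc le_rfl
          exact this (st c w hw)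
        exact h1 hf
      have hde : d • e = e := by
        have h1 := hE _ hz
        rw [smul_mul'] at h1
        have h2 : (d • e) * e⁻¹ = f * (d • f)⁻¹ := by
          have h3 : d • e = e * f * (d • f)⁻¹ := by rw [← h1, mul_inv_cancel_right]
          rw [h3, mul_assoc e, hab e, mul_inv_cancel_right]
        have h3 : (d • e) * e⁻¹ ∈ W b := mul_mem (st b e heW) (inv_mem heW)
        have h4 : (d • e) * e⁻¹ ∈ (⨆ c, ⨆ (_ : c ≠ b), W c : Subgroup M) := by
          rw [h2]; exact mul_mem hf (inv_mem hfs)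
        have h5 := Subgroup.mem_bot.1 ((h.indep b).le_bot ⟨h3, h4⟩)
        rwa [mul_inv_eq_one] at h5
      refine hr.fix hab hsq hd (st b) (hU b) he he1 hde fun w hw u hu => ?_
      have h1 := hcom u⁻¹ (inv_mem (h.JEJ hu.1)) w (h.leY b hw)
      rw [inv_inv, hab (d • w)] at h1
      have e1 : u⁻¹ * (d * u * d⁻¹) = u⁻¹ * d * u * d⁻¹ := by group
      rw [e1]
      exact h1
    · exact hk d hd (st b) (hU b)
  intro w hw
  have h1 : (⨆ b, W b : Subgroup M) ≤
      { carrier := {x : M | d • x = x}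
        mul_mem' := fun {x y} (hx : d • x = x) (hy : d • y = y) => by
          show d • (x * y) = x * y
          rw [smul_mul', hx, hy]
        one_mem' := smul_one d
        inv_mem' := fun {x} (hx : d • x = x) => by
          show d • x⁻¹ = x⁻¹
          rw [smul_inv', hx] } := iSup_le fun b w hw => hb b w hw
  exact h1 (h.sup hw)

end Cfsg.Agent.Omega.KL.StarR.Blk
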