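import Cfsg.Agent.Omega.KL.StarR.LemE

/-!
# LEMMA E for a natural block with a radical (helper502, bb #26560)

`H` acts on the elementary abelian 2-group `M`; `W ≤ M` is a natural `SL_2(q)`-block with radical `D ≤ W`
(nonsplit), `L = l ⊕ D` the fixed points of the root group `U` on `W`; no field structure is used.
`d ∈ H` of odd order normalises `W`, `D` and `U`, fixes `e ∈ L ∖ D` modulo `D`, and `[U, d]` centralises `[W, d]`.
Then `d` centralises `W`.

* `RootD W L D U` : the hypotheses on `(W, L, D, U)` (`LemE.Root` modulo `D`; `gen` : `D ≤ [W, U]`);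
* **`RootD.fix`**;
* **`fix_of_moveD`** : `LemE.fix_of_move` with `W ∩ d W ≤ D`.
-/

set_option autoImplicit false

namespace Cfsg.Agent.Omega.KL.StarR.LemEN

open Cfsg.Agent.Omega.KL.StarR.LemE (smul_conj fix_of_sq)

variable {H : Type*} [Group H] {M : Type*} [Group M] [MulDistribMulAction H M]

/-- `U` acts on `W` like a root group of `SL_2(q)` on a natural block with radical `D`, `L = C_W(U)`. -/
structure RootD (W L D : Subgroup M) (U : Subgroup H) : Prop where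
  DL : D ≤ L
  le : L ≤ W
  norm : ∀ u ∈ U, ∀ w ∈ W, u • w ∈ W
  cent : ∀ u ∈ U, ∀ y ∈ L, u • y = y
  fix_le : ∀ u ∈ U, (∃ w ∈ W, u • w ≠ w) → ∀ w ∈ W, u • w = w → w ∈ L
  fixD : ∀ u ∈ U, ∀ w ∈ W, w⁻¹ * u • w ∈ D → u • w = w
  onto_w : ∀ u ∈ U, (∃ w ∈ W, u • w ≠ w) → ∀ y ∈ L, ∃ w ∈ W, ∃ z ∈ D, u • w = w * (y * z)
  onto_u : ∀ w ∈ W, w ∉ L → ∀ y ∈ L, ∃ u ∈ U, ∃ z ∈ D, u • w = w * (y * z)
  onto : ∀ y ∈ L, ∃ w ∈ W, ∃ u ∈ U, ∃ z ∈ D, u • w = w * (y * z)
  gen : ∀ x ∈ D, x ∈ Subgroup.closure {c | ∃ w ∈ W, ∃ u ∈ U, c = w⁻¹ * u • w}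

variable {W L D : Subgroup M} {U : Subgroup H}

/-- an element of odd order whose square is trivial on `W / D` is trivial on `W / D` -/
theorem fixD_of_sq {d : H} (hd : Odd (orderOf d)) {W D : Subgroup M} (hD : ∀ w ∈ D, d • w ∈ D) (h2 : ∀ w ∈ W, w⁻¹ * d • d • w ∈ D) : ∀ w ∈ W, w⁻¹ * d • w ∈ D := by
  obtain ⟨k, hk⟩ := hd
  intro w hw
  have hD2 : ∀ z ∈ D, (d ^ 2) • z ∈ D := fun z hz => by
    rw [pow_two, mul_smul]
    exact hD _ (hD _ hz)
  have h3 : ∀ n : ℕ, w⁻¹ * (d ^ 2) ^ n • w ∈ D := by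
    intro n
    induction n with
    | zero => simp
    | succ n ih =>
      have e1 : w⁻¹ * (d ^ 2) ^ (n + 1) • w = (w⁻¹ * (d ^ 2) • w) * (d ^ 2) • (w⁻¹ * (d ^ 2) ^ n • w) := by
        rw [smul_mul', smul_inv', pow_succ', mul_smul, mul_assoc, mul_inv_cancel_left]
      rw [e1]
      refine mul_mem ?_ (hD2 _ ih)
      rw [pow_two, mul_smul]
      exact h2 w hw
  have h4 : d = (d ^ 2) ^ (k + 1) := by
    rw [← pow_mul]
    have : 2 * (k + 1) = orderOf d + 1 := by omega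
    rw [this, pow_succ, pow_orderOf_eq_one, one_mul]
  have h5 := h3 (k + 1)
  rwa [← h4] at h5

/-- **LEMMA E for a natural block with a radical** -/
theorem RootD.fix (h : RootD W L D U) (hab : ∀ a b : M, a * b = b * a) (hsq : ∀ a : M, a ^ 2 = 1) {d : H} {e : M}
    (hd : Odd (orderOf d)) (hdW : ∀ w ∈ W, d • w ∈ W) (hdD : ∀ w ∈ D, d • w ∈ D) (hdU : ∀ u ∈ U, d * u * d⁻¹ ∈ U)
    (he : e ∈ L) (he1 : e ∉ D) (hde : e⁻¹ * d • e ∈ D)
    (hcom : ∀ w ∈ W, ∀ u ∈ U, (u⁻¹ * (d * u * d⁻¹)) • (w⁻¹ * d • w) = w⁻¹ * d • w) :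
    ∀ w ∈ W, d • w = w := by
  have hDW : D ≤ W := h.DL.trans h.le
  have hez : ∀ z ∈ D, e * z ≠ 1 := fun z hz hc => he1 (by
    rw [mul_eq_one_iff_eq_inv] at hc
    rw [hc]
    exact inv_mem hz)
  -- Step 1
  have s1 : ∀ u ∈ U, ∀ w ∈ W, (d * u * d⁻¹) • w = u • w := by
    intro u hu
    by_contra hne
    push Not at hne
    obtain ⟨w₀, hw₀, hne⟩ := hne
    set x : H := u⁻¹ * (d * u * d⁻¹) with hx
    have hxU : x ∈ U := mul_mem (inv_mem hu) (hdU u hu)
    have hux : ∀ w : M, u • x • w = (d * u * d⁻¹) • w := fun w => by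
      rw [hx, ← mul_smul, mul_inv_cancel_left]
    have hxm : ∃ w ∈ W, x • w ≠ w := by
      refine ⟨w₀, hw₀, fun hc => hne ?_⟩
      rw [← hux, hc]
    have hWl : ∀ w ∈ W, w⁻¹ * d • w ∈ L := fun w hw =>
      h.fix_le x hxU hxm _ (mul_mem (inv_mem hw) (hdW w hw)) (hcom w hw u hu)
    have hum : ∃ w ∈ W, u • w ≠ w := by
      by_contra hc
      push Not at hc
      obtain ⟨w, hw, hxw⟩ := hxm
      have hk : ∀ n : ℕ, d ^ n • w ∈ W := by
        intro n
        induction n with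
        | zero => simpa using hw
        | succ n ih => rw [pow_succ', mul_smul]; exact hdW _ ih
      have h1 : d⁻¹ = d ^ (orderOf d - 1) := by
        have hpos : 0 < orderOf d := hd.pos
        rw [inv_eq_iff_mul_eq_one, ← pow_succ', Nat.sub_add_cancel hpos, pow_orderOf_eq_one]
      have hd' : d⁻¹ • w ∈ W := by rw [h1]; exact hk _
      refine hxw ?_
      have h2 : (d * u * d⁻¹) • w = w := by
        rw [mul_smul, mul_smul, hc _ hd', smul_inv_smul]
      have h3 : u⁻¹ • w = w := by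
        rw [inv_smul_eq_iff]
        exact (hc w hw).symm
      rw [hx, mul_smul, h2, h3]
    obtain ⟨w, hw, z, hz, hwe⟩ := h.onto_w u hu hum e he
    set y : M := w⁻¹ * d • w with hy
    have hyl : y ∈ L := hWl w hw
    have hdw : d • w = w * y := by rw [hy, mul_inv_cancel_left]
    have h1 : (d * u * d⁻¹) • (d • w) = d • w * (d • (e * z)) := by
      rw [smul_conj, hwe, smul_mul']
    rw [hdw, smul_mul', h.cent _ (hdU u hu) y hyl] at h1
    have h2 : (d * u * d⁻¹) • w = w * d • (e * z) := by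
      have : (d * u * d⁻¹) • w * y = w * d • (e * z) * y :=
        h1.trans ((mul_assoc w y _).trans ((congrArg (fun z => w * z) (hab y _)).trans (mul_assoc w _ y).symm))
      exact mul_right_cancel this
    have hzz : (e * z)⁻¹ * d • (e * z) ∈ D := by
      have e1 : (e * z)⁻¹ * d • (e * z) = (e⁻¹ * d • e) * (z⁻¹ * d • z) := by
        rw [smul_mul', mul_inv_rev, hab z⁻¹ e⁻¹, mul_assoc, mul_assoc, ← mul_assoc z⁻¹, hab z⁻¹ (d • e), mul_assoc]
      rw [e1]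
      exact mul_mem hde (mul_mem (inv_mem hz) (hdD z hz))
    have huez : u • (e * z) = e * z := h.cent u hu _ (mul_mem he (h.DL hz))
    have h3 : u • (w * ((e * z)⁻¹ * d • (e * z))) = (d * u * d⁻¹) • w := by
      rw [smul_mul', h.cent u hu _ (h.DL hzz), hwe, h2, mul_assoc, mul_inv_cancel_left]
    have h3' : x • w = w * ((e * z)⁻¹ * d • (e * z)) := by
      rw [hx, mul_smul, ← h3, inv_smul_smul]
    have h4 : x • w = w := h.fixD x hxU w hw (by rw [h3', inv_mul_cancel_left]; exact hzz)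
    have h5 : w ∈ L := h.fix_le x hxU hxm w hw h4
    have h6 : u • w = w := h.cent u hu w h5
    rw [hwe] at h6
    exact hez z hz (by simpa using h6)
  have s1' : ∀ u ∈ U, ∀ w ∈ W, u • (d • w) = d • (u • w) := fun u hu w hw => by
    rw [← s1 u hu _ (hdW w hw), smul_conj]
  -- `U` moves `W`
  obtain ⟨w₀, hw₀, u₀, hu₀, z₀, hz₀, h₀⟩ := h.onto e he
  have hm₀ : u₀ • w₀ ≠ w₀ := fun hc => hez z₀ hz₀ (by rw [hc] at h₀; simpa using h₀.symm)
  -- Step 2
  have s2 : ∀ w ∈ W, w⁻¹ * d • w ∈ L := by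
    intro w hw
    by_cases hwl : w ∈ L
    · refine mul_mem (inv_mem hwl) (h.fix_le u₀ hu₀ ⟨w₀, hw₀, hm₀⟩ _ (hdW w hw) ?_)
      rw [s1' u₀ hu₀ w hw, h.cent u₀ hu₀ w hwl]
    · obtain ⟨u, hu, z, hz, huw⟩ := h.onto_u w hw hwl e he
      have hvW : w⁻¹ * d • w ∈ W := mul_mem (inv_mem hw) (hdW w hw)
      refine h.fix_le u hu ⟨w, hw, fun hc => hez z hz ?_⟩ _ hvW (h.fixD u hu _ hvW ?_)
      · rw [hc] at huw
        simpa using huw.symm
      · have e1 : (w⁻¹ * d • w)⁻¹ * u • (w⁻¹ * d • w) = (e * z)⁻¹ * d • (e * z) := by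
          rw [smul_mul', smul_inv', s1' u hu w hw, huw, smul_mul', mul_inv_rev, mul_inv_rev, inv_inv]
          -- `(d•w)⁻¹ * w * ((e z)⁻¹ * w⁻¹ * (d•w * d•(e z)))`
          rw [hab (e * z)⁻¹ w⁻¹, mul_assoc (d • w)⁻¹ w, mul_assoc w⁻¹, mul_inv_cancel_left, hab (e * z)⁻¹,
            mul_assoc (d • w), inv_mul_cancel_left, hab (d • (e * z))]
        rw [e1]
        have e2 : (e * z)⁻¹ * d • (e * z) = (e⁻¹ * d • e) * (z⁻¹ * d • z) := by
          rw [smul_mul', mul_inv_rev, hab z⁻¹ e⁻¹, mul_assoc, mul_assoc, ← mul_assoc z⁻¹, hab z⁻¹ (d • e), mul_assoc]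
        rw [e2]
        exact mul_mem hde (mul_mem (inv_mem hz) (hdD z hz))
  -- Step 3
  have s3 : ∀ y ∈ L, y⁻¹ * d • y ∈ D := by
    intro y hy
    obtain ⟨w, hw, u, hu, z, hz, huw⟩ := h.onto y hy
    set y' : M := w⁻¹ * d • w with hy'
    have hdw : d • w = w * y' := by rw [hy', mul_inv_cancel_left]
    have h1 := s1' u hu w hw
    rw [huw, smul_mul', hdw, smul_mul', huw, h.cent u hu y' (s2 w hw)] at h1
    -- `w * (y * z) * y' = w * y' * d • (y * z)`
    rw [mul_assoc w (y * z) y', hab (y * z) y', ← mul_assoc w y' (y * z)] at h1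
    have h2 : y * z = d • (y * z) := mul_left_cancel h1
    rw [smul_mul'] at h2
    have h3 : y⁻¹ * d • y = z * (d • z)⁻¹ := by
      have h4 : d • y = y * z * (d • z)⁻¹ := by rw [h2, mul_inv_cancel_right]
      rw [h4, mul_assoc, inv_mul_cancel_left]
    rw [h3]
    exact mul_mem hz (inv_mem (hdD z hz))
  -- Step 4 : `d` is trivial on `W / D`
  have s4 : ∀ w ∈ W, w⁻¹ * d • w ∈ D := by
    refine fixD_of_sq hd hdD fun w hw => ?_
    set v : M := w⁻¹ * d • w with hv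
    have hdw : d • w = w * v := by rw [hv, mul_inv_cancel_left]
    have h1 := s3 v (s2 w hw)
    have e1 : w⁻¹ * d • d • w = v ^ 2 * (v⁻¹ * d • v) := by
      rw [hdw, smul_mul', hdw, mul_assoc w, inv_mul_cancel_left, pow_two, mul_assoc v v, mul_inv_cancel_left]
    rw [e1, hsq, one_mul]
    exact h1
  -- Step 5 : `d` fixes `[W, U]`
  have s5 : ∀ w ∈ W, ∀ u ∈ U, d • (w⁻¹ * u • w) = w⁻¹ * u • w := by
    intro w hw u hu
    have hdw : d • w = w * (w⁻¹ * d • w) := by rw [mul_inv_cancel_left]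
    have h1 := s1' u hu w hw
    rw [hdw, smul_mul', h.cent u hu _ (h.DL (s4 w hw))] at h1
    -- `u • w * (w⁻¹ * d • w) = d • (u • w)`
    rw [smul_mul', smul_inv', ← h1, hdw, mul_inv_rev, inv_mul_cancel_left]
    rw [hab (u • w) (w⁻¹ * d • w), mul_assoc, hab w⁻¹ ((w⁻¹ * d • w) * u • w), ← mul_assoc, inv_mul_cancel_left,
      hab (u • w) w⁻¹]
  -- Step 6 : `d` fixes `D`
  have s6 : ∀ x ∈ D, d • x = x := by
    intro x hx
    refine Subgroup.closure_induction (p := fun x _ => d • x = x) ?_ (smul_one d)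
      (fun a b _ _ ha hb => by rw [smul_mul', ha, hb]) (fun a _ ha => by rw [smul_inv', ha]) (h.gen x hx)
    rintro c ⟨w, hw, u, hu, rfl⟩
    exact s5 w hw u hu
  refine fix_of_sq hd fun w hw => ?_
  have hdw : d • w = w * (w⁻¹ * d • w) := by rw [mul_inv_cancel_left]
  rw [hdw, smul_mul', s6 _ (s4 w hw)]
  have h2 : (w⁻¹ * d • w) * (w⁻¹ * d • w) = 1 := by rw [← pow_two]; exact hsq _
  calc d • w * (w⁻¹ * d • w) = w * (w⁻¹ * d • w) * (w⁻¹ * d • w) := by rw [← hdw]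
    _ = w := by rw [mul_assoc, h2, mul_one]

/-- **LEMMA 1** of helper345 #24794 for blocks with a radical: a block `W` which `d` moves is centralised by the `a`
which act on `W` only. -/
theorem fix_of_moveD (hab : ∀ a b : M, a * b = b * a) {W D : Subgroup M} {a d : H} {w : M} (hw : w ∈ W)
    (haw : a • w ∈ W) (h1 : a • (d • w) = d • w) (h2 : (d * a * d⁻¹) • w = w)
    (hcom : (a⁻¹ * (d * a * d⁻¹)) • (w⁻¹ * d • w) = w⁻¹ * d • w)
    (disj : ∀ x ∈ W, ∀ y ∈ W, d • y = x → x ∈ D) (hD : w⁻¹ * a • w ∈ D → a • w = w) : a • w = w := by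
  have h3 : (d * a * d⁻¹) • (w⁻¹ * d • w) = a • (w⁻¹ * d • w) := by
    rw [mul_smul, inv_smul_eq_iff] at hcom
    exact hcom
  rw [smul_mul', smul_mul', smul_inv', smul_inv', h2, smul_conj, h1] at h3
  have h4 : d • (w * (a • w)⁻¹) = (a • w) * w⁻¹ := by
    rw [smul_mul', smul_inv', hab (d • w)]
    have h5 : d • w = (a • w) * w⁻¹ * d • a • w := by
      rw [mul_assoc, h3, mul_inv_cancel_left]
    rw [inv_mul_eq_iff_eq_mul, hab (d • a • w)]
    exact h5
  have h6 := disj _ (mul_mem haw (inv_mem hw)) _ (mul_mem hw (inv_mem haw)) h4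
  exact hD (by rwa [hab])

end Cfsg.Agent.Omega.KL.StarR.LemEN
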