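import Cfsg.Agent.Omega.KL.StarR.Blk
import Cfsg.Agent.Omega.KL.StarR.LemEN

/-!
# [R-z], nonsplit blocks: the field `bad` over a family of blocks with radicals (helper502, bb #26560)

As `KL/StarR/Blk.lean` (helper885), but the blocks `W b` have radicals `D b` and are independent modulo the radicals
only.

* `BlkN J JE NY Y E W L D` : the hypotheses (`L b = C_{W b}(root group)`);
* **`BlkN.stab`** : `d ∈ NY ∩ N(J)` of odd order with `[[Y, d], [J, d]] = 1` normalises every block and its radical;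
* **`BlkN.bad`** : if moreover `d` centralises `E` then `d` centralises `Y`.
-/

set_option autoImplicit false

namespace Cfsg.Agent.Omega.KL.StarR.BlkRad

open Subgroup
open Cfsg.Agent.Omega.KL.StarR.Blk (UU mem_UU inv_stab)
open Cfsg.Agent.Omega.KL.StarR.LemEN (RootD fix_of_moveD)

variable {H : Type*} [Group H] {M : Type*} [Group M] [MulDistribMulAction H M] {ι : Type*}

/-- the blocks of `Y`, with radicals -/
structure BlkN (J JE NY : Subgroup H) (Y E : Subgroup M) (W L D : ι → Subgroup M) : Prop where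
  JEJ : JE ≤ J
  nJE : ∀ d ∈ NY, d ∈ normalizer (J : Set H) → d ∈ normalizer (JE : Set H)
  leY : ∀ b, W b ≤ Y
  sup : Y ≤ ⨆ b, W b
  indep : ∀ b, W b ⊓ (⨆ c, ⨆ (_ : c ≠ b), W c) ≤ D b
  perm : ∀ d ∈ NY, ∀ b, ∃ c, (∀ w ∈ W b, d • w ∈ W c) ∧ ∀ w ∈ D b, d • w ∈ D c
  mv : ∀ b, ∃ a ∈ UU JE W b, ∃ w ∈ W b, a • w ≠ w
  root : ∀ b, RootD (W b) (L b) (D b) (UU JE W b)
  vec : ∀ b, ∃ z ∈ E, ∃ e ∈ L b, e ∉ D b ∧ ∃ f ∈ (⨆ c, ⨆ (_ : c ≠ b), W c : Subgroup M), z = e * f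

variable {J JE NY : Subgroup H} {Y E : Subgroup M} {W L D : ι → Subgroup M}

theorem BlkN.le_others {b c : ι} (hc : c ≠ b) : W c ≤ (⨆ c, ⨆ (_ : c ≠ b), W c : Subgroup M) :=
  le_iSup₂_of_le (f := fun (c : ι) (_ : c ≠ b) => W c) c hc le_rfl

theorem BlkN.dis (h : BlkN J JE NY Y E W L D) {b c : ι} (hc : c ≠ b) {x : M} (h1 : x ∈ W b) (h2 : x ∈ W c) :
    x ∈ D b := h.indep b ⟨h1, BlkN.le_others hc h2⟩

theorem BlkN.DW (h : BlkN J JE NY Y E W L D) (b : ι) : D b ≤ W b := (h.root b).DL.trans (h.root b).le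

/-- **`d` normalises every block** -/
theorem BlkN.stab (h : BlkN J JE NY Y E W L D) (hab : ∀ a b : M, a * b = b * a) {d : H} (hd : Odd (orderOf d))
    (hN : d ∈ NY)
    (hcom : ∀ j ∈ J, ∀ w ∈ Y, (j * d * j⁻¹ * d⁻¹) • ((d • w) * w⁻¹) = (d • w) * w⁻¹) (b : ι) :
    (∀ w ∈ W b, d • w ∈ W b) ∧ ∀ w ∈ D b, d • w ∈ D b := by
  obtain ⟨c, hc, hcD⟩ := h.perm d hN b
  by_cases hcb : c = b
  · rw [hcb] at hc hcD
    exact ⟨hc, hcD⟩
  exfalso
  obtain ⟨a, ha, w, hw, hm⟩ := h.mv b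
  have hDf : ∀ x ∈ D b, ∀ a ∈ UU JE W b, a • x = x := fun x hx a ha => (h.root b).cent a ha x ((h.root b).DL hx)
  refine hm (fix_of_moveD hab (W := W b) (D := D b) (d := d) hw ((h.root b).norm a ha w hw) ?_ ?_ ?_ ?_
    ((h.root b).fixD a ha w hw))
  · exact ha.2 c hcb _ (hc w hw)
  · obtain ⟨c', hc', -⟩ := h.perm d⁻¹ (inv_mem hN) b
    by_cases hcb' : c' = b
    · exfalso
      rw [hcb'] at hc'
      have h1 : ∀ w ∈ W b, d • w ∈ W b := by
        have h2 := inv_stab (d := d⁻¹) (by rwa [orderOf_inv]) hc'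
        simpa using h2
      -- `W b = d W b ≤ W b ∩ W c ≤ D b`
      have h2 : d • (d⁻¹ • w) ∈ D b := h.dis hcb (h1 _ (hc' w hw)) (hc _ (hc' w hw))
      rw [smul_inv_smul] at h2
      exact hm (hDf w h2 a ha)
    · rw [mul_smul, mul_smul, ha.2 c' hcb' _ (hc' w hw), smul_inv_smul]
  · have h1 := hcom a⁻¹ (inv_mem (h.JEJ ha.1)) w (h.leY b hw)
    rw [inv_inv, hab (d • w)] at h1
    have e1 : a⁻¹ * (d * a * d⁻¹) = a⁻¹ * d * a * d⁻¹ := by group
    rw [e1]
    exact h1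
  · intro x hx y hy hxy
    exact h.dis hcb hx (hxy ▸ hc y hy)

/-- **the field `bad`** -/
theorem BlkN.bad (h : BlkN J JE NY Y E W L D) (hab : ∀ a b : M, a * b = b * a) (hsq : ∀ a : M, a ^ 2 = 1) :
    ∀ d ∈ NY, Odd (orderOf d) → d ∈ normalizer (J : Set H) →
      (∀ j ∈ J, ∀ w ∈ Y, (j * d * j⁻¹ * d⁻¹) • ((d • w) * w⁻¹) = (d • w) * w⁻¹) → (∀ z ∈ E, d • z = z) →
      ∀ w ∈ Y, d • w = w := by
  intro d hN hd hJ hcom hE
  have st := fun b => (h.stab hab hd hN hcom b).1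
  have stD := fun b => (h.stab hab hd hN hcom b).2
  have sti := fun b => inv_stab hd (st b)
  have hJE := h.nJE d hN hJ
  have hU : ∀ b, ∀ u ∈ UU JE W b, d * u * d⁻¹ ∈ UU JE W b := by
    intro b u hu
    refine ⟨(mem_normalizer_iff.1 hJE u).1 hu.1, fun c hc w hw => ?_⟩
    rw [mul_smul, mul_smul, hu.2 c hc _ (sti c w hw), smul_inv_smul]
  have hb : ∀ b, ∀ w ∈ W b, d • w = w := by
    intro b
    have hr := h.root b
    obtain ⟨z, hz, e, he, he1, f, hf, rfl⟩ := h.vec b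
    have heW : e ∈ W b := hr.le he
    have hfs : d • f ∈ (⨆ c, ⨆ (_ : c ≠ b), W c : Subgroup M) := by
      have h1 : (⨆ c, ⨆ (_ : c ≠ b), W c : Subgroup M) ≤
          (⨆ c, ⨆ (_ : c ≠ b), W c : Subgroup M).comap (MulDistribMulAction.toMonoidHom M d) :=
        iSup₂_le fun c hc w hw => BlkN.le_others hc (st c w hw)
      exact h1 hf
    have hde : e⁻¹ * d • e ∈ D b := by
      have h1 := hE _ hz
      rw [smul_mul'] at h1
      have h2 : (d • e) * e⁻¹ = f * (d • f)⁻¹ := by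
        have h3 : d • e = e * f * (d • f)⁻¹ := by rw [← h1, mul_inv_cancel_right]
        rw [h3, mul_assoc e, hab e, mul_inv_cancel_right]
      have h3 : (d • e) * e⁻¹ ∈ W b := mul_mem (st b e heW) (inv_mem heW)
      have h4 : (d • e) * e⁻¹ ∈ (⨆ c, ⨆ (_ : c ≠ b), W c : Subgroup M) := by
        rw [h2]; exact mul_mem hf (inv_mem hfs)
      rw [hab]
      exact h.indep b ⟨h3, h4⟩
    refine hr.fix hab hsq hd (st b) (stD b) (hU b) he he1 hde fun w hw u hu => ?_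
    have h1 := hcom u⁻¹ (inv_mem (h.JEJ hu.1)) w (h.leY b hw)
    rw [inv_inv, hab (d • w)] at h1
    have e1 : u⁻¹ * (d * u * d⁻¹) = u⁻¹ * d * u * d⁻¹ := by group
    rw [e1]
    exact h1
  intro w hw
  have h1 : (⨆ b, W b : Subgroup M) ≤
      { carrier := {x : M | d • x = x}
        mul_mem' := fun {x y} (hx : d • x = x) (hy : d • y = y) => by
          show d • (x * y) = x * y
          rw [smul_mul', hx, hy]
        one_mem' := smul_one d
        inv_mem' := fun {x} (hx : d • x = x) => by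
          show d • x⁻¹ = x⁻¹
          rw [smul_inv', hx] } := iSup_le fun b w hw => hb b w hw
  exact h1 (h.sup hw)

end Cfsg.Agent.Omega.KL.StarR.BlkRad
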