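import Cfsg.Agent.Omega.KL.StarR.GrpR
import Cfsg.Agent.Omega.KL.StarR.Main

/-!
# KL* with an object which is only normalised: `GInR → False` (bb #24309 (6), #25079, #25588)
-/

set_option autoImplicit false

namespace Cfsg.Agent.Omega.KL.StarR.GrpRF

open Cfsg

universe u

/-- **`GInR` is impossible** -/
theorem false_of {G : Type u} [Group G] [Finite G] {C T A J Q M Z Z' Y : Subgroup G}
    (h : GInR C T A J Q M Z Z' Y) (hM : ML.Final.MLK.{u, u}) (hR : NO3b.EndX.RedP.{u, u})
    (hE : ML.Ex.Two.Ext.{u, u}) : False := by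
  obtain ⟨X, N, _, _, _, _, _, T', A', J', Q', Z₁, Y', h1⟩ := h.inpR
  exact h1.false_of hM hR hE

end Cfsg.Agent.Omega.KL.StarR.GrpRF
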