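import Mathlib

/-!
# LEMMA E (helper885, bb #24934): a scalar which fixes a vector

`H` acts on the elementary abelian 2-group `M`; `W ≤ M`, `U ≤ H` is a "root group" of a natural `SL_2(q)`-block `W`
with centre line `l` (no field structure is used); `d ∈ H` of odd order normalises `W` and `U`, fixes `1 ≠ e ∈ l`,
and `[U, d]` centralises `[W, d]`.  Then `d` centralises `W`.

* `Root W l U` : the hypotheses on `(W, l, U)`;
* **`Root.fix`** : LEMMA E;
* **`fix_of_move`** : Lemma 1 of helper345 #24794 in the exact form: if `[a, d]` centralises `[w, d]`, `W ⊓ d W = 1`,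
  `a` fixes `d w` and `d a d⁻¹` fixes `w`, then `a` fixes `w ∈ W`.
-/

set_option autoImplicit false

namespace Cfsg.Agent.Omega.KL.StarR.LemE

variable {H : Type*} [Group H] {M : Type*} [Group M] [MulDistribMulAction H M]

/-- `U` acts on `W` like a root group of `SL_2(q)` on its natural module, `l = C_W(U)`. -/
structure Root (W l : Subgroup M) (U : Subgroup H) : Prop where
  le : l ≤ W
  norm : ∀ u ∈ U, ∀ w ∈ W, u • w ∈ W
  cent : ∀ u ∈ U, ∀ y ∈ l, u • y = y
  fix_le : ∀ u ∈ U, (∃ w ∈ W, u • w ≠ w) → ∀ w ∈ W, u • w = w → w ∈ l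
  onto_w : ∀ u ∈ U, (∃ w ∈ W, u • w ≠ w) → ∀ y ∈ l, ∃ w ∈ W, u • w = w * y
  onto_u : ∀ w ∈ W, w ∉ l → ∀ y ∈ l, ∃ u ∈ U, u • w = w * y
  onto : ∀ y ∈ l, ∃ w ∈ W, ∃ u ∈ U, u • w = w * y

variable {W l : Subgroup M} {U : Subgroup H}

theorem smul_conj (d u : H) (w : M) : (d * u * d⁻¹) • (d • w) = d • (u • w) := by
  rw [← mul_smul, ← mul_smul, inv_mul_cancel_right]

/-- an element of odd order which moves every `w ∈ W` inside `w C_W(d)` centralises `W` -/
theorem fix_of_sq {d : H} (hd : Odd (orderOf d)) {W : Subgroup M} (h2 : ∀ w ∈ W, d • d • w = w) :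
    ∀ w ∈ W, d • w = w := by
  obtain ⟨k, hk⟩ := hd
  intro w hw
  have h3 : ∀ n : ℕ, (d ^ 2) ^ n • w = w := by
    intro n
    induction n with
    | zero => simp
    | succ n ih =>
      rw [pow_succ, mul_smul]
      have : d ^ 2 • w = w := by rw [pow_two, mul_smul]; exact h2 w hw
      rw [this, ih]
  have h4 : d = (d ^ 2) ^ (k + 1) := by
    rw [← pow_mul]
    have : 2 * (k + 1) = orderOf d + 1 := by omega
    rw [this, pow_succ, pow_orderOf_eq_one, one_mul]
  rw [h4]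
  exact h3 _

/-- **LEMMA E** -/
theorem Root.fix (h : Root W l U) (hab : ∀ a b : M, a * b = b * a) (hsq : ∀ a : M, a ^ 2 = 1) {d : H} {e : M}
    (hd : Odd (orderOf d)) (hdW : ∀ w ∈ W, d • w ∈ W) (hdU : ∀ u ∈ U, d * u * d⁻¹ ∈ U)
    (he : e ∈ l) (he1 : e ≠ 1) (hde : d • e = e)
    (hcom : ∀ w ∈ W, ∀ u ∈ U, (u⁻¹ * (d * u * d⁻¹)) • (w⁻¹ * d • w) = w⁻¹ * d • w) :
    ∀ w ∈ W, d • w = w := by
  -- Step 1
  have s1 : ∀ u ∈ U, ∀ w ∈ W, (d * u * d⁻¹) • w = u • w := by
    intro u hu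
    by_contra hne
    push Not at hne
    obtain ⟨w₀, hw₀, hne⟩ := hne
    set x : H := u⁻¹ * (d * u * d⁻¹) with hx
    have hxU : x ∈ U := mul_mem (inv_mem hu) (hdU u hu)
    have hux : ∀ w : M, u • x • w = (d * u * d⁻¹) • w := fun w => by
      rw [hx, ← mul_smul, mul_inv_cancel_left]
    have hxm : ∃ w ∈ W, x • w ≠ w := by
      refine ⟨w₀, hw₀, fun hc => hne ?_⟩
      rw [← hux, hc]
    have hWl : ∀ w ∈ W, w⁻¹ * d • w ∈ l := fun w hw =>
      h.fix_le x hxU hxm _ (mul_mem (inv_mem hw) (hdW w hw)) (hcom w hw u hu)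
    have hum : ∃ w ∈ W, u • w ≠ w := by
      by_contra hc
      push Not at hc
      -- then `W ≤ l` would follow from `x`
      obtain ⟨w, hw, hxw⟩ := hxm
      have hk : ∀ n : ℕ, d ^ n • w ∈ W := by
        intro n
        induction n with
        | zero => simpa using hw
        | succ n ih => rw [pow_succ', mul_smul]; exact hdW _ ih
      have h1 : d⁻¹ = d ^ (orderOf d - 1) := by
        have hpos : 0 < orderOf d := hd.pos
        rw [inv_eq_iff_mul_eq_one, ← pow_succ', Nat.sub_add_cancel hpos, pow_orderOf_eq_one]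
      have hd' : d⁻¹ • w ∈ W := by rw [h1]; exact hk _
      refine hxw ?_
      have h2 : (d * u * d⁻¹) • w = w := by
        rw [mul_smul, mul_smul, hc _ hd', smul_inv_smul]
      have h3 : u⁻¹ • w = w := by
        rw [inv_smul_eq_iff]
        exact (hc w hw).symm
      rw [hx, mul_smul, h2, h3]
    obtain ⟨w, hw, hwe⟩ := h.onto_w u hu hum e he
    set y : M := w⁻¹ * d • w with hy
    have hyl : y ∈ l := hWl w hw
    have hdw : d • w = w * y := by rw [hy, mul_inv_cancel_left]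
    have h1 : (d * u * d⁻¹) • (d • w) = d • w * e := by
      rw [smul_conj, hwe, smul_mul', hde]
    rw [hdw, smul_mul', h.cent _ (hdU u hu) y hyl] at h1
    have h2 : (d * u * d⁻¹) • w = w * e := by
      have : (d * u * d⁻¹) • w * y = w * e * y :=
        h1.trans ((mul_assoc w y e).trans ((congrArg (fun z => w * z) (hab y e)).trans (mul_assoc w e y).symm))
      exact mul_right_cancel this
    have h3 : x • w = w := by
      rw [hx, mul_smul, h2, ← hwe, inv_smul_smul]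
    have h4 : w ∈ l := h.fix_le x hxU hxm w hw h3
    have h5 : u • w = w := h.cent u hu w h4
    rw [hwe] at h5
    exact he1 (by simpa using h5)
  have s1' : ∀ u ∈ U, ∀ w ∈ W, u • (d • w) = d • (u • w) := fun u hu w hw => by
    rw [← s1 u hu _ (hdW w hw), smul_conj]
  -- `U` moves `W`
  obtain ⟨w₀, hw₀, u₀, hu₀, h₀⟩ := h.onto e he
  have hm₀ : u₀ • w₀ ≠ w₀ := fun hc => he1 (by rw [hc] at h₀; simpa using h₀.symm)
  -- Step 2
  have s2 : ∀ w ∈ W, w⁻¹ * d • w ∈ l := by
    intro w hw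
    by_cases hwl : w ∈ l
    · refine mul_mem (inv_mem hwl) (h.fix_le u₀ hu₀ ⟨w₀, hw₀, hm₀⟩ _ (hdW w hw) ?_)
      rw [s1' u₀ hu₀ w hw, h.cent u₀ hu₀ w hwl]
    · obtain ⟨u, hu, huw⟩ := h.onto_u w hw hwl e he
      refine h.fix_le u hu ⟨w, hw, fun hc => he1 ?_⟩ _ (mul_mem (inv_mem hw) (hdW w hw)) ?_
      · rw [hc] at huw
        simpa using huw.symm
      · rw [smul_mul', smul_inv', s1' u hu w hw, huw, smul_mul', hde, hab w e, hab (d • w) e, mul_inv_rev, mul_assoc,
          inv_mul_cancel_left]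
  -- Step 3
  have s3 : ∀ y ∈ l, d • y = y := by
    intro y hy
    obtain ⟨w, hw, u, hu, huw⟩ := h.onto y hy
    set y' : M := w⁻¹ * d • w with hy'
    have hdw : d • w = w * y' := by rw [hy', mul_inv_cancel_left]
    have h1 := s1' u hu w hw
    rw [huw, smul_mul', hdw, smul_mul', huw, h.cent u hu y' (s2 w hw)] at h1
    -- `w * y * y' = w * y' * (d • y)`
    rw [mul_assoc, mul_assoc, hab y y'] at h1
    exact (mul_left_cancel (mul_left_cancel h1)).symm
  -- Step 4
  refine fix_of_sq hd fun w hw => ?_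
  have hdw : d • w = w * (w⁻¹ * d • w) := by rw [mul_inv_cancel_left]
  rw [hdw, smul_mul', s3 _ (s2 w hw)]
  have h2 : (w⁻¹ * d • w) * (w⁻¹ * d • w) = 1 := by rw [← pow_two]; exact hsq _
  calc d • w * (w⁻¹ * d • w) = w * (w⁻¹ * d • w) * (w⁻¹ * d • w) := by rw [← hdw]
    _ = w := by rw [mul_assoc, h2, mul_one]

/-- **LEMMA 1** of helper345 #24794 (exact form): a block `W` which `d` moves is centralised by the `a` which act on
`W` only. -/
theorem fix_of_move (hab : ∀ a b : M, a * b = b * a) {W : Subgroup M} {a d : H} {w : M} (hw : w ∈ W)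
    (haw : a • w ∈ W) (h1 : a • (d • w) = d • w) (h2 : (d * a * d⁻¹) • w = w)
    (hcom : (a⁻¹ * (d * a * d⁻¹)) • (w⁻¹ * d • w) = w⁻¹ * d • w)
    (disj : ∀ x ∈ W, ∀ y ∈ W, d • y = x → x = 1) : a • w = w := by
  have h3 : (d * a * d⁻¹) • (w⁻¹ * d • w) = a • (w⁻¹ * d • w) := by
    rw [mul_smul, inv_smul_eq_iff] at hcom
    exact hcom
  rw [smul_mul', smul_mul', smul_inv', smul_inv', h2, smul_conj, h1] at h3
  -- `w⁻¹ * d • a • w = (a • w)⁻¹ * d • w`
  have h4 : d • (w * (a • w)⁻¹) = (a • w) * w⁻¹ := by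
    rw [smul_mul', smul_inv', hab (d • w)]
    have h5 : d • w = (a • w) * w⁻¹ * d • a • w := by
      rw [mul_assoc, h3, mul_inv_cancel_left]
    rw [inv_mul_eq_iff_eq_mul, hab (d • a • w)]
    exact h5
  have h6 := disj _ (mul_mem haw (inv_mem hw)) _ (mul_mem hw (inv_mem haw)) h4
  rwa [mul_inv_eq_one] at h6

end Cfsg.Agent.Omega.KL.StarR.LemE
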