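import Cfsg.Agent.Omega.KL.StarR.LemE

/-!
# LEMMA EN (helper513, bb #27021): LEMMA E for a nonsplit block

`H` acts on the elementary abelian 2-group `M`; `D ≤ L ≤ W ≤ M`, `U ≤ H` is a "root group" of a possibly nonsplit
natural `SL_2(q)`-block `W` (`D = C_W(E_b)`, `L = l_b D`, `W / D` natural); `d ∈ H` of odd order normalises `W` and `D`
and, modulo `C(W)`, the group `U`; it fixes `e D`, `e ∈ L ∖ D`; and `[U, d]` centralises `[W, d]`.  Then `d`
centralises `W`.

* `RootN W L D U` : the hypotheses on `(W, L, D, U)`;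
* **`RootN.fix`** : LEMMA EN.
-/

set_option autoImplicit false

namespace Cfsg.Agent.Omega.KL.StarR.LemEM

open Cfsg.Agent.Omega.KL.StarR.LemE (smul_conj fix_of_sq)

variable {H : Type*} [Group H] {M : Type*} [Group M] [MulDistribMulAction H M]

/-- `U` acts on `W` like a root group of `SL_2(q)` on a module `W` with `W / D` natural, `D = C_W(SL_2(q))`. -/
structure RootN (W L D : Subgroup M) (U : Subgroup H) : Prop where
  le : L ≤ W
  DL : D ≤ L
  norm : ∀ u ∈ U, ∀ w ∈ W, u • w ∈ W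
  cent : ∀ u ∈ U, ∀ y ∈ L, u • y = y
  fix_le : ∀ u ∈ U, (∃ w ∈ W, u • w ≠ w) → ∀ w ∈ W, w⁻¹ * u • w ∈ D → w ∈ L
  onto_w : ∀ u ∈ U, (∃ w ∈ W, u • w ≠ w) → ∀ y ∈ L, ∃ w ∈ W, ∃ c ∈ D, u • w = w * (y * c)
  onto_u : ∀ w ∈ W, w ∉ L → ∀ y ∈ L, ∃ u ∈ U, ∃ c ∈ D, u • w = w * (y * c)
  gen : L ≤ Subgroup.closure {y | ∃ w ∈ W, ∃ u ∈ U, y = w⁻¹ * u • w}

variable {W L D : Subgroup M} {U : Subgroup H}

/-- **LEMMA EN** -/
theorem RootN.fix (h : RootN W L D U) (hab : ∀ a b : M, a * b = b * a) (hsq : ∀ a : M, a ^ 2 = 1) {d : H} {e : M}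
    (hd : Odd (orderOf d)) (hdW : ∀ w ∈ W, d • w ∈ W) (hdD : ∀ w ∈ D, d • w ∈ D)
    (hdU : ∀ u ∈ U, ∃ u' ∈ U, ∀ w ∈ W, (d * u * d⁻¹) • w = u' • w)
    (he : e ∈ L) (he1 : e ∉ D) (hde : e⁻¹ * d • e ∈ D)
    (hcom : ∀ w ∈ W, ∀ u ∈ U, (u⁻¹ * (d * u * d⁻¹)) • (w⁻¹ * d • w) = w⁻¹ * d • w) :
    ∀ w ∈ W, d • w = w := by
  let _ : CommGroup M := { (inferInstance : Group M) with mul_comm := hab }
  have sq : ∀ a : M, a * a = 1 := fun a => by rw [← pow_two]; exact hsq a
  have inv : ∀ a : M, a⁻¹ = a := fun a => inv_eq_of_mul_eq_one_left (sq a)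
  obtain ⟨c₁, hc₁, hde'⟩ : ∃ c ∈ D, d • e = e * c := ⟨_, hde, by rw [mul_inv_cancel_left]⟩
  -- Step 1
  have s1 : ∀ u ∈ U, ∀ w ∈ W, (d * u * d⁻¹) • w = u • w := by
    intro u hu
    obtain ⟨u', hu', huu⟩ := hdU u hu
    by_contra hne
    push Not at hne
    obtain ⟨w₀, hw₀, hne⟩ := hne
    set x : H := u⁻¹ * u' with hx
    have hxU : x ∈ U := mul_mem (inv_mem hu) hu'
    have hxa : ∀ w ∈ W, (u⁻¹ * (d * u * d⁻¹)) • w = x • w := fun w hw => by
      rw [hx, mul_smul u⁻¹ (d * u * d⁻¹), mul_smul u⁻¹ u', huu w hw]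
    have hux : ∀ w ∈ W, u • x • w = (d * u * d⁻¹) • w := fun w hw => by
      rw [hx, ← mul_smul, mul_inv_cancel_left, huu w hw]
    have hxm : ∃ w ∈ W, x • w ≠ w := by
      refine ⟨w₀, hw₀, fun hc => hne ?_⟩
      rw [← hux w₀ hw₀, hc]
    have hWl : ∀ w ∈ W, w⁻¹ * d • w ∈ L := fun w hw => by
      have h1 : w⁻¹ * d • w ∈ W := mul_mem (inv_mem hw) (hdW w hw)
      refine h.fix_le x hxU hxm _ h1 ?_
      rw [← hxa _ h1, hcom w hw u hu, inv_mul_cancel]
      exact one_mem _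
    have hum : ∃ w ∈ W, u • w ≠ w := by
      by_contra hc
      push Not at hc
      obtain ⟨w, hw, hxw⟩ := hxm
      have hk : ∀ n : ℕ, d ^ n • w ∈ W := by
        intro n
        induction n with
        | zero => simpa using hw
        | succ n ih => rw [pow_succ', mul_smul]; exact hdW _ ih
      have h1 : d⁻¹ = d ^ (orderOf d - 1) := by
        have hpos : 0 < orderOf d := hd.pos
        rw [inv_eq_iff_mul_eq_one, ← pow_succ', Nat.sub_add_cancel hpos, pow_orderOf_eq_one]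
      have hd' : d⁻¹ • w ∈ W := by rw [h1]; exact hk _
      refine hxw ?_
      have h2 : (d * u * d⁻¹) • w = w := by
        rw [mul_smul, mul_smul, hc _ hd', smul_inv_smul]
      have h3 : u⁻¹ • w = w := by
        rw [inv_smul_eq_iff]
        exact (hc w hw).symm
      rw [← hxa w hw, mul_smul, h2, h3]
    obtain ⟨w, hw, c, hc, hwe⟩ := h.onto_w u hu hum e he
    set y : M := w⁻¹ * d • w with hy
    have hyl : y ∈ L := hWl w hw
    have hdw : d • w = w * y := by rw [hy, mul_inv_cancel_left]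
    have h1 : (d * u * d⁻¹) • (d • w) = d • w * (e * c₁ * d • c) := by
      rw [smul_conj, hwe, smul_mul', smul_mul', hde']
    have hcc : c₁ * d • c ∈ D := mul_mem hc₁ (hdD c hc)
    have h2 : (d * u * d⁻¹) • w = w * (e * (c₁ * d • c)) := by
      rw [hdw, smul_mul', huu y (h.le hyl), h.cent _ hu' y hyl] at h1
      have h3 : (d * u * d⁻¹) • w * y = w * (e * (c₁ * d • c)) * y := by
        rw [h1]
        simp only [mul_comm, mul_left_comm, mul_assoc]
      exact mul_right_cancel h3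
    have h4 : u⁻¹ • w = w * (e * c) := by
      rw [inv_smul_eq_iff, smul_mul', hwe, h.cent u hu _ (mul_mem he (h.DL hc)), mul_assoc, sq, mul_one]
    have h5 : x • w = w * (c * (c₁ * d • c)) := by
      rw [← hxa w hw, mul_smul, h2, smul_mul', h4, h.cent _ (inv_mem hu) _ (mul_mem he (h.DL hcc))]
      calc w * (e * c) * (e * (c₁ * d • c)) = w * (c * (c₁ * d • c)) * (e * e) := by
            simp only [mul_comm, mul_left_comm, mul_assoc]
        _ = _ := by rw [sq, mul_one]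
    have h6 : w ∈ L := by
      refine h.fix_le x hxU hxm w hw ?_
      rw [h5, inv_mul_cancel_left]
      exact mul_mem hc hcc
    have h7 : u • w = w := h.cent u hu w h6
    rw [hwe] at h7
    have h8 : e * c = 1 := by simpa using h7
    refine he1 ?_
    rw [mul_eq_one_iff_eq_inv.1 h8]
    exact inv_mem hc
  have s1' : ∀ u ∈ U, ∀ w ∈ W, u • (d • w) = d • (u • w) := fun u hu w hw => by
    rw [← s1 u hu _ (hdW w hw), smul_conj]
  -- `U` moves `W`
  have hmv : ∃ u ∈ U, ∃ w ∈ W, u • w ≠ w := by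
    by_contra hc
    push Not at hc
    have h1 : L ≤ ⊥ := by
      refine h.gen.trans ((Subgroup.closure_le _).2 ?_)
      rintro _ ⟨w, hw, u, hu, rfl⟩
      simp [hc u hu w hw]
    exact he1 (by rw [(Subgroup.mem_bot).1 (h1 he)]; exact one_mem _)
  obtain ⟨u₀, hu₀, hm₀⟩ := hmv
  -- Step 2
  have s2 : ∀ w ∈ W, w⁻¹ * d • w ∈ L := by
    intro w hw
    by_cases hwl : w ∈ L
    · refine mul_mem (inv_mem hwl) (h.fix_le u₀ hu₀ hm₀ _ (hdW w hw) ?_)
      rw [s1' u₀ hu₀ w hw, h.cent u₀ hu₀ w hwl, inv_mul_cancel]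
      exact one_mem _
    · obtain ⟨u, hu, c, hc, huw⟩ := h.onto_u w hw hwl e he
      have hum : ∃ w ∈ W, u • w ≠ w := by
        refine ⟨w, hw, fun h1 => he1 ?_⟩
        rw [huw] at h1
        have h8 : e * c = 1 := by simpa using h1
        rw [mul_eq_one_iff_eq_inv.1 h8]
        exact inv_mem hc
      refine h.fix_le u hu hum _ (mul_mem (inv_mem hw) (hdW w hw)) ?_
      have h2 : (w⁻¹ * d • w)⁻¹ * u • (w⁻¹ * d • w) = c * (c₁ * d • c) := by
        rw [smul_mul', smul_inv', s1' u hu w hw, huw, smul_mul', smul_mul', hde']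
        simp only [inv]
        calc _ = (d • w * d • w) * (w * w) * (e * e) * (c * (c₁ * d • c)) := by
              simp only [mul_comm, mul_left_comm, mul_assoc]
          _ = _ := by simp only [sq, one_mul]
      rw [h2]
      exact mul_mem hc (mul_mem hc₁ (hdD c hc))
  -- Step 3
  have s3 : ∀ y ∈ L, d • y = y := by
    have h0 : L ≤ Subgroup.closure {y | d • y = y} := by
      refine h.gen.trans (Subgroup.closure_mono ?_)
      rintro _ ⟨w, hw, u, hu, rfl⟩
      have hdw : d • w = w * (w⁻¹ * d • w) := by rw [mul_inv_cancel_left]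
      change d • (w⁻¹ * u • w) = w⁻¹ * u • w
      rw [smul_mul', smul_inv', ← s1' u hu w hw, hdw, smul_mul', h.cent u hu _ (s2 w hw)]
      simp only [inv]
      calc _ = (w * d • w) * (w * d • w) * (w * u • w) := by
            simp only [mul_comm, mul_left_comm, mul_assoc]
        _ = _ := by rw [sq, one_mul]
    intro y hy
    refine Subgroup.closure_induction (p := fun y _ => d • y = y) (fun _ h1 => h1) (smul_one d) (fun a b _ _ ha hb => ?_)
      (fun a _ ha => ?_) (h0 hy)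
    · rw [smul_mul', ha, hb]
    · rw [smul_inv', ha]
  -- Step 4
  refine fix_of_sq hd fun w hw => ?_
  have hdw : d • w = w * (w⁻¹ * d • w) := by rw [mul_inv_cancel_left]
  rw [hdw, smul_mul', s3 _ (s2 w hw)]
  calc d • w * (w⁻¹ * d • w) = w * (w⁻¹ * d • w) * (w⁻¹ * d • w) := by rw [← hdw]
    _ = w := by rw [mul_assoc, sq, mul_one]

end Cfsg.Agent.Omega.KL.StarR.LemEM
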